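import Cfsg.Agent.Lib.SuzukiRankOne.Defs
import Cfsg.Agent.Lib.Bender.TwoClosed.Basic
import Cfsg.Agent.Lib.Bender.TwoClosed.Fixed

/-!
Bender's theorem when the point stabiliser is 2-closed modulo an odd core containing all odd elements centralising
an involution: the set-up.

Blueprint: `blueprint/bender/E_OddCore.md`.  The elementary lemmas on swappers are those of the 2-closed case, with
the weaker hypothesis `Act` in place of `Closed`.
-/

set_option autoImplicit false
set_option linter.unusedSectionVars false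
set_option linter.style.haveILetI false

namespace CfsgLib.Bender.OddCore

open MulAction Cfsg CfsgLib.SuzukiRankOne
open CfsgLib.Bender.TwoClosed (IsInv IsInv.inv IsInv.conj IsInv.smul_twice two InvAt Swap smul_conj mem_two mem_two_comm
  exists_inv_of_even odd_card_of_forall odd_orderOf eq_one_of_two_odd eq_one_of_inv_eq)

universe u v

variable {G : Type u} {Ω : Type v} [Group G] [MulAction G Ω]

/-- Every involution fixes exactly one point and there is a four-group. -/
structure Act (G : Type u) (Ω : Type v) [Group G] [MulAction G Ω] : Prop where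
  trans : IsPretransitive G Ω
  one_fix : ∀ x : G, IsInv x → ∃! c : Ω, x • c = c
  four : Four G

/-- The odd core `N c` and the subgroup `M c` of the stabiliser of `c`: `M c` is a 2-group modulo `N c` and contains
the centralisers of the involutions fixing `c`. -/
structure Core (G : Type u) (Ω : Type v) [Group G] [MulAction G Ω] (N M : Ω → Subgroup G) : Prop where
  act : Act G Ω
  N_le : ∀ c : Ω, N c ≤ M c
  M_le : ∀ c : Ω, M c ≤ stabilizer G c
  conjN : ∀ (g : G) (c : Ω), ∀ x ∈ N c, g * x * g⁻¹ ∈ N (g • c)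
  conjM : ∀ (g : G) (c : Ω), ∀ x ∈ M c, g * x * g⁻¹ ∈ M (g • c)
  oddN : ∀ c : Ω, Odd (Nat.card (N c))
  quot : ∀ c : Ω, ∀ x ∈ M c, ∃ k : ℕ, x ^ 2 ^ k ∈ N c
  cent : ∀ (c : Ω) (z g : G), IsInv z → z • c = c → g * z = z * g → g ∈ M c

section Act

variable {a b : Ω} (hA : Act G Ω)
include hA

theorem eq_of_fix {x : G} (hx : IsInv x) {c d : Ω} (hc : x • c = c) (hd : x • d = d) : c = d :=
  (hA.one_fix x hx).unique hc hd

theorem exists_fix {x : G} (hx : IsInv x) : ∃ c : Ω, x • c = c := (hA.one_fix x hx).exists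

theorem commute_fix {x g : G} (hx : IsInv x) {c : Ω} (hc : x • c = c) (h : g * x = x * g) : g • c = c :=
  eq_of_fix hA hx (by rw [← mul_smul, ← h, mul_smul, hc]) hc

theorem exists_inv : ∃ x : G, IsInv x := by
  obtain ⟨x, y, hx, -, -, hx2, -, -⟩ := hA.four
  exact ⟨x, hx, hx2⟩

theorem exists_inv_at (c : Ω) : ∃ x : G, IsInv x ∧ x • c = c := by
  haveI := hA.trans
  obtain ⟨x, hx⟩ := exists_inv hA
  obtain ⟨d, hd⟩ := exists_fix hA hx
  obtain ⟨g, rfl⟩ := exists_smul_eq G d c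
  exact ⟨g * x * g⁻¹, hx.conj g, smul_conj hd⟩

theorem exists_two_at (c : Ω) : ∃ x y : G, IsInv x ∧ x • c = c ∧ IsInv y ∧ y • c = c ∧ x ≠ y := by
  haveI := hA.trans
  obtain ⟨x, y, hx, hy, hne, hx2, hy2, hxy⟩ := hA.four
  obtain ⟨d, hd⟩ := exists_fix hA ⟨hx, hx2⟩
  have hyd : y • d = d := commute_fix hA ⟨hx, hx2⟩ hd hxy.symm
  obtain ⟨g, rfl⟩ := exists_smul_eq G d c
  exact ⟨g * x * g⁻¹, g * y * g⁻¹, IsInv.conj ⟨hx, hx2⟩ g, smul_conj hd, IsInv.conj ⟨hy, hy2⟩ g,
    smul_conj hyd, fun e => hne (mul_left_cancel (mul_right_cancel e))⟩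

variable [Finite G]

theorem odd_two {c d : Ω} (hne : c ≠ d) : Odd (Nat.card (two c d : Subgroup G)) :=
  odd_card_of_forall fun _ hx hi => hne (eq_of_fix hA hi (mem_two.mp hx).1 (mem_two.mp hx).2)

theorem odd_mul {i j : G} {c d : Ω} (hi : IsInv i) (hc : i • c = c) (hj : IsInv j) (hd : j • d = d)
    (hne : c ≠ d) : Odd (orderOf (i * j)) := by
  by_contra hodd
  rw [Nat.not_odd_iff_even] at hodd
  obtain ⟨h1, h2⟩ := CfsgLib.Involutions.central_half hi.2 hj.2 hodd
  obtain ⟨hz2, hz1⟩ := CfsgLib.Involutions.orderOf_eq_two_iff'.mp (CfsgLib.Involutions.orderOf_half hodd)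
  obtain ⟨e, he⟩ := exists_fix hA ⟨hz1, hz2⟩
  exact hne ((eq_of_fix hA hi hc (commute_fix hA ⟨hz1, hz2⟩ he h1.eq.symm)).trans
    (eq_of_fix hA hj (commute_fix hA ⟨hz1, hz2⟩ he h2.eq.symm) hd))

theorem swap_points {i j u : G} {c d : Ω} (hi : IsInv i) (hc : i • c = c) (hj : IsInv j) (hd : j • d = d)
    (hu : IsInv u) (he : u * i * u = j) : u • c = d ∧ u • d = c := by
  have h1 : u • c = d := by
    refine eq_of_fix hA hj ?_ hd
    rw [← he, mul_smul, mul_smul, hu.smul_twice, hc]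
  exact ⟨h1, by rw [← h1, hu.smul_twice]⟩

theorem exists_swap_conj {i j : G} {c d : Ω} (hi : IsInv i) (hc : i • c = c) (hj : IsInv j)
    (hd : j • d = d) (hne : c ≠ d) : ∃ u, IsInv u ∧ u * i * u = j ∧ u ∈ Subgroup.closure ({i, j} : Set G) := by
  obtain ⟨l, hl⟩ := odd_mul hA hi hc hj hd hne
  have hpow : (i * j) ^ ((l : ℤ) + l) = j * i := by
    rw [show (l : ℤ) + l = ((2 * l + 1 : ℕ) : ℤ) + (-1) by push_cast; ring, zpow_add, zpow_natCast, ← hl,
      pow_orderOf_eq_one, one_mul, zpow_neg_one, mul_inv_rev, hi.inv, hj.inv]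
  have hcl : (i * j) ^ (l : ℤ) * i ∈ Subgroup.closure ({i, j} : Set G) :=
    mul_mem (zpow_mem (mul_mem (Subgroup.subset_closure (Set.mem_insert i {j}))
      (Subgroup.subset_closure (Set.mem_insert_of_mem i (Set.mem_singleton j)))) _)
      (Subgroup.subset_closure (Set.mem_insert i {j}))
  have he : (i * j) ^ (l : ℤ) * i * i * ((i * j) ^ (l : ℤ) * i) = j := by
    rw [mul_assoc _ i i, hi.2, mul_one, ← mul_assoc, ← zpow_add, hpow, mul_assoc, hi.2, mul_one]
  refine ⟨_, ⟨fun e => hne ?_, ?_⟩, he, hcl⟩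
  · rw [e, one_mul, mul_one] at he
    subst he
    exact eq_of_fix hA hi hc hd
  · nth_rewrite 2 [CfsgLib.Involutions.zpow_mul_eq hi.2 hj.2]
    rw [← mul_assoc, mul_assoc _ i i, hi.2, mul_one, ← zpow_add, add_neg_cancel, zpow_zero]

theorem exists_swap {c d : Ω} (hne : c ≠ d) : Nonempty (Swap G c d) := by
  obtain ⟨i, hi, hc⟩ := exists_inv_at hA c
  obtain ⟨j, hj, hd⟩ := exists_inv_at hA d
  obtain ⟨u, hu, he, -⟩ := exists_swap_conj hA hi hc hj hd hne
  exact ⟨⟨u, hu, (swap_points hA hi hc hj hd hu he).1⟩⟩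

theorem swap_back {u : G} (hu : IsInv u) (h : u • a = b) : u • b = a := by rw [← h, hu.smul_twice]

theorem exists_ne [FaithfulSMul G Ω] : ∃ b : Ω, b ≠ a := by
  by_contra h
  push Not at h
  obtain ⟨x, hx⟩ := exists_inv hA
  exact hx.1 (eq_of_smul_eq_smul (α := Ω) fun c => (h _).trans (h _).symm)

/-- An odd order element inverted by an involution commutes with no involution fixed by it. -/
theorem inverted_commute {x u y : G} (hu : IsInv u) (hx : IsInv x) (hy : Odd (orderOf y))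
    (hinv : u * y * u = y⁻¹) (hxy : y * x = x * y) {c : Ω} (hxc : x • c = c) (hne : u • c ≠ c) : y = 1 := by
  obtain ⟨e, he⟩ := exists_fix hA hu
  have hodd := odd_mul hA hu he hx hxc (fun h => hne (h ▸ he))
  have h2 : (u * x) * y * (u * x)⁻¹ = y⁻¹ := by
    rw [mul_inv_rev, hu.inv, hx.inv, ← hinv]
    calc u * x * y * (x * u) = u * (x * y) * x * u := by group
      _ = u * (y * x) * x * u := by rw [hxy]
      _ = u * y * (x * x) * u := by group
      _ = u * y * u := by rw [hx.2, mul_one]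
  obtain ⟨n, hn⟩ := CfsgLib.Involutions.exists_sqrt hodd
  have h3 : ((u * x) * (u * x)) * y * ((u * x) * (u * x))⁻¹ = y := by
    calc ((u * x) * (u * x)) * y * ((u * x) * (u * x))⁻¹
        = (u * x) * ((u * x) * y * (u * x)⁻¹) * (u * x)⁻¹ := by group
      _ = ((u * x) * y * (u * x)⁻¹)⁻¹ := by
          conv_lhs => rw [h2]
          group
      _ = y := by rw [h2, inv_inv]
  have h4 : Commute ((u * x) * (u * x)) y := mul_inv_eq_iff_eq_mul.mp h3
  have h5 : Commute (u * x) y := by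
    have := h4.pow_left n
    rwa [(Commute.refl (u * x)).mul_pow, hn] at this
  refine eq_one_of_inv_eq ?_ hy
  rw [← h2, h5.eq, mul_inv_cancel_right]

theorem swap_unique {i u u' : G} {c d : Ω} (hi : IsInv i) (hc : i • c = c) (hne : c ≠ d) (hu : IsInv u)
    (hu' : IsInv u') (hj : (u * i * u) • d = d) (he : u' * i * u' = u * i * u) : u' = u := by
  have hji : IsInv (u * i * u) := by have := hi.conj u; rwa [hu.inv] at this
  obtain ⟨h1, h2⟩ := swap_points hA hi hc hji hj hu rfl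
  obtain ⟨-, h4⟩ := swap_points hA hi hc hji hj hu' he
  obtain ⟨h3, -⟩ := swap_points hA hi hc hji hj hu' he
  have hd : u' * u ∈ two c d := mem_two.mpr ⟨by rw [mul_smul, h1, h4], by rw [mul_smul, h2, h3]⟩
  have hcomm : (u' * u) * i = i * (u' * u) := by
    calc (u' * u) * i = u' * (u * i * u) * u := by simp [mul_assoc, hu.2]
      _ = u' * (u' * i * u') * u := by rw [he]
      _ = i * (u' * u) := by simp [← mul_assoc, hu'.2]
  have hinv : u * (u' * u) * u = (u' * u)⁻¹ := by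
    rw [mul_inv_rev, hu.inv, hu'.inv, mul_assoc, mul_assoc u' u u, hu.2, mul_one]
  have := inverted_commute hA hu hi (odd_orderOf (odd_two hA hne) hd) hinv hcomm hc
    (by rw [h1]; exact hne.symm)
  rw [mul_eq_one_iff_eq_inv, hu.inv] at this
  exact this

theorem exists_conj_stab {i i' : G} {c : Ω} (hi : IsInv i) (hc : i • c = c) (hi' : IsInv i')
    (hc' : i' • c = c) {d : Ω} (hne : c ≠ d) : ∃ g ∈ two c d, g * i * g⁻¹ = i' := by
  obtain ⟨j, hj, hd⟩ := exists_inv_at hA d
  obtain ⟨u, hu, he, -⟩ := exists_swap_conj hA hi hc hj hd hne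
  obtain ⟨u', hu', he', -⟩ := exists_swap_conj hA hi' hc' hj hd hne
  obtain ⟨h1, h2⟩ := swap_points hA hi hc hj hd hu he
  obtain ⟨h3, h4⟩ := swap_points hA hi' hc' hj hd hu' he'
  refine ⟨u' * u, mem_two.mpr ⟨by rw [mul_smul, h1, h4], by rw [mul_smul, h2, h3]⟩, ?_⟩
  rw [mul_inv_rev, hu.inv, hu'.inv]
  calc u' * u * i * (u * u') = u' * (u * i * u) * u' := by group
    _ = u' * (u' * i' * u') * u' := by rw [he, he']
    _ = i' := by simp [← mul_assoc, hu'.2, mul_assoc i']

theorem card_invAt_eq (c : Ω) : Nat.card (InvAt G c) = Nat.card (InvAt G a) := by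
  haveI := hA.trans
  obtain ⟨g, rfl⟩ := exists_smul_eq G a c
  exact Nat.card_congr
    { toFun := fun x => ⟨g⁻¹ * x * g, by simpa using x.2.1.conj g⁻¹, by
        rw [mul_smul, mul_smul, x.2.2, inv_smul_smul]⟩
      invFun := fun x => ⟨g * x * g⁻¹, x.2.1.conj g, smul_conj x.2.2⟩
      left_inv := fun x => Subtype.ext (by simp [mul_assoc])
      right_inv := fun x => Subtype.ext (by simp [mul_assoc]) }

theorem card_swap (hb : b ≠ a) : Nat.card (Swap G a b) = Nat.card (InvAt G a) := by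
  obtain ⟨i, hi, hia⟩ := exists_inv_at hA a
  rw [← card_invAt_eq hA b]
  refine Nat.card_eq_of_bijective (fun u : Swap G a b => (⟨u.1 * i * u.1, ?_, ?_⟩ : InvAt G b)) ⟨?_, ?_⟩
  · have := hi.conj u.1
    rwa [u.2.1.inv] at this
  · rw [mul_smul, mul_smul, swap_back hA u.2.1 u.2.2, hia, u.2.2]
  · intro u u' h
    have h' : u.1 * i * u.1 = u'.1 * i * u'.1 := congrArg Subtype.val h
    refine Subtype.ext (swap_unique hA hi hia hb.symm u'.2.1 u.2.1 ?_ h')
    rw [mul_smul, mul_smul, swap_back hA u'.2.1 u'.2.2, hia, u'.2.2]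
  · rintro ⟨j, hj, hjb⟩
    obtain ⟨u, hu, he, -⟩ := exists_swap_conj hA hi hia hj hjb hb.symm
    exact ⟨⟨u, hu, (swap_points hA hi hia hj hjb hu he).1⟩, Subtype.ext he⟩

theorem card_two_eq (hb : b ≠ a) {u : G} (hu : IsInv u) (hua : u • a = b) :
    Nat.card (two a b : Subgroup G) =
      Nat.card (InvAt G a) * Nat.card ↥(two a b ⊓ Subgroup.centralizer ({u} : Set G)) := by
  set D : Subgroup G := two a b
  set K := (D ⊓ Subgroup.centralizer ({u} : Set G)).subgroupOf D
  rw [Subgroup.card_eq_card_quotient_mul_card_subgroup K,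
    Nat.card_congr (Subgroup.subgroupOfEquivOfLe (inf_le_left : D ⊓ Subgroup.centralizer ({u} : Set G) ≤ D)).toEquiv,
    ← card_swap hA hb]
  congr 1
  have hw : ∀ e : D, IsInv ((e : G) * u * (e : G)⁻¹) ∧ ((e : G) * u * (e : G)⁻¹) • a = b := fun e => by
    obtain ⟨h1, h2⟩ := mem_two.mp e.2
    refine ⟨hu.conj e, ?_⟩
    rw [mul_smul, mul_smul, inv_smul_eq_iff.mpr h1.symm, hua, h2]
  have hiff : ∀ e e' : D, (e : G) * u * (e : G)⁻¹ = (e' : G) * u * (e' : G)⁻¹ ↔ e⁻¹ * e' ∈ K := fun e e' => by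
    rw [Subgroup.mem_subgroupOf, Subgroup.mem_inf, Subgroup.mem_centralizer_singleton_iff,
      and_iff_right (e⁻¹ * e').2, Subgroup.coe_mul, Subgroup.coe_inv]
    constructor
    · intro h
      calc (e : G)⁻¹ * e' * u = (e : G)⁻¹ * ((e' : G) * u * (e' : G)⁻¹) * e' := by group
        _ = u * ((e : G)⁻¹ * e') := by rw [← h]; group
    · intro h
      calc (e : G) * u * (e : G)⁻¹ = (e : G) * (u * ((e : G)⁻¹ * e')) * (e' : G)⁻¹ := by group
        _ = _ := by rw [← h]; group
  refine Nat.card_eq_of_bijective (Quotient.lift (fun e : D => (⟨_, hw e⟩ : Swap G a b)) fun e e' h =>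
    Subtype.ext ((hiff e e').mpr (QuotientGroup.leftRel_apply.mp h))) ⟨?_, ?_⟩
  · intro x y h
    induction x using Quotient.inductionOn
    induction y using Quotient.inductionOn
    exact Quotient.sound (QuotientGroup.leftRel_apply.mpr ((hiff _ _).mp (congrArg Subtype.val h)))
  · rintro ⟨w, hw, hwa⟩
    have hd : w * u ∈ D := mem_two.mpr ⟨by rw [mul_smul, hua, swap_back hA hw hwa],
      by rw [mul_smul, swap_back hA hu hua, hwa]⟩
    obtain ⟨n, hn⟩ := CfsgLib.Involutions.exists_sqrt (odd_orderOf (odd_two hA hb.symm) hd)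
    refine ⟨Quotient.mk _ ⟨(w * u) ^ n, pow_mem hd n⟩, Subtype.ext ?_⟩
    have hinv : u * (w * u) ^ n * u = ((w * u) ^ n)⁻¹ := by
      have h1 := conj_pow (i := n) (a := u) (b := w * u)
      rw [hu.inv] at h1
      rw [← h1, mul_assoc, mul_assoc w u u, hu.2, mul_one, ← inv_pow, mul_inv_rev, hu.inv, hw.inv]
    show (w * u) ^ n * u * ((w * u) ^ n)⁻¹ = w
    rw [← hinv]
    calc (w * u) ^ n * u * (u * (w * u) ^ n * u) = (w * u) ^ n * (u * u) * (w * u) ^ n * u := by group
      _ = w := by rw [hu.2, mul_one, hn, mul_assoc, hu.2, mul_one]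

end Act


/-- If `w = g⁻¹ z g z` has odd order then `g v` commutes with `z` for some power `v` of `w`. -/
theorem exists_cent [Finite G] {z g : G} (hz : IsInv z) (hodd : Odd (orderOf (g⁻¹ * z * g * z))) :
    ∃ v ∈ Subgroup.zpowers (g⁻¹ * z * g * z), (g * v) * z = z * (g * v) := by
  set w := g⁻¹ * z * g * z with hw
  obtain ⟨n, hn⟩ := CfsgLib.Involutions.exists_sqrt hodd
  refine ⟨w ^ n, pow_mem (Subgroup.mem_zpowers w) n, ?_⟩
  have h1 : z * w * z⁻¹ = w⁻¹ := by
    rw [hw, mul_inv_rev, mul_inv_rev, mul_inv_rev, inv_inv, hz.inv]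
    calc z * (g⁻¹ * z * g * z) * z = z * g⁻¹ * z * g * (z * z) := by group
      _ = z * (g⁻¹ * (z * g)) := by rw [hz.2]; group
  have h2 : z * w ^ n * z⁻¹ = (w ^ n)⁻¹ := by rw [← conj_pow, h1, inv_pow]
  rw [hz.inv] at h2
  have h3 : z * g * z = g * w := by
    rw [hw]
    calc z * g * z = g * g⁻¹ * (z * g * z) := by group
      _ = g * (g⁻¹ * z * g * z) := by group
  have h4 : z * (g * w ^ n) * z = g * w ^ n := by
    calc z * (g * w ^ n) * z = (z * g * z) * (z * w ^ n * z) := by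
            rw [show (z * g * z) * (z * w ^ n * z) = z * g * (z * z) * w ^ n * z by group, hz.2]
            group
      _ = g * (w ^ n * w ^ n) * (w ^ n)⁻¹ := by rw [h3, h2, hn]
      _ = g * w ^ n := by group
  calc g * w ^ n * z = z * (z * (g * w ^ n) * z) := by
        rw [← mul_assoc, ← mul_assoc, hz.2, one_mul]
    _ = _ := by rw [h4]

section Core

variable [Finite G] {N M : Ω → Subgroup G} {a b c : Ω} (hC : Core G Ω N M)
include hC

theorem smul_of_M {x : G} (hx : x ∈ M c) : x • c = c := mem_stabilizer_iff.mp (hC.M_le c hx)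

theorem smul_of_N {x : G} (hx : x ∈ N c) : x • c = c := smul_of_M hC (hC.N_le c hx)

theorem inv_mem_M {z : G} (hz : IsInv z) (hzc : z • c = c) : z ∈ M c := hC.cent c z z hz hzc rfl

theorem conj_M {h x : G} (hh : h • c = c) (hx : x ∈ M c) : h * x * h⁻¹ ∈ M c := by
  simpa [hh] using hC.conjM h c x hx

theorem conj_N {h x : G} (hh : h • c = c) (hx : x ∈ N c) : h * x * h⁻¹ ∈ N c := by
  simpa [hh] using hC.conjN h c x hx

theorem mem_N_of_odd {x : G} (hx : x ∈ M c) (hodd : Odd (orderOf x)) : x ∈ N c := by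
  obtain ⟨k, hk⟩ := hC.quot c x hx
  induction k with
  | zero => simpa using hk
  | succ k ih =>
    refine ih ?_
    rw [pow_succ, pow_mul, pow_two] at hk
    exact TwoClosed.mem_of_sq_mem (hodd.of_dvd_nat (orderOf_pow_dvd _)) hk

/-- An element of the stabiliser moving an involution by an element of odd order lies in `M`. -/
theorem mem_M_of_comm {z g : G} (hz : IsInv z) (hzc : z • c = c) (hg : g • c = c)
    (hodd : Odd (orderOf (g⁻¹ * z * g * z))) : g ∈ M c := by
  obtain ⟨v, hv, he⟩ := exists_cent hz hodd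
  have hw : g⁻¹ * z * g * z ∈ M c := by
    refine mul_mem ?_ (inv_mem_M hC hz hzc)
    simpa using conj_M hC (h := g⁻¹) (by rw [inv_smul_eq_iff, hg]) (inv_mem_M hC hz hzc)
  have hvM := Subgroup.zpowers_le.mpr hw hv
  rw [show g = (g * v) * v⁻¹ by group]
  exact mul_mem (hC.cent c z _ hz hzc he) (inv_mem hvM)

theorem mem_N_of_comm {z g : G} (hz : IsInv z) (hzc : z • c = c) (hg : g • c = c) (hgo : Odd (orderOf g))
    (hodd : Odd (orderOf (g⁻¹ * z * g * z))) : g ∈ N c :=
  mem_N_of_odd hC (mem_M_of_comm hC hz hzc hg hodd) hgo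

/-- A subgroup of odd order of the stabiliser normalised by an involution of the stabiliser lies in `N`. -/
theorem le_N_of_normalised {T : Subgroup G} (hT : Odd (Nat.card T)) (hTc : ∀ x ∈ T, x • c = c) {z : G}
    (hz : IsInv z) (hzc : z • c = c) (hn : z ∈ Subgroup.normalizer (T : Set G)) : T ≤ N c := fun x hx => by
  refine mem_N_of_comm hC hz hzc (hTc x hx) (odd_orderOf hT hx) (odd_orderOf hT ?_)
  have h := TwoClosed.conj_mem_of_normalizer hn hx
  rw [hz.inv] at h
  simpa [mul_assoc] using mul_mem (inv_mem hx) h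

theorem mem_N_of_inverted {z g : G} (hz : IsInv z) (hzc : z • c = c) (hg : g • c = c) (hgo : Odd (orderOf g))
    (hinv : z * g * z = g⁻¹) : g ∈ N c := by
  refine mem_N_of_comm hC hz hzc hg hgo ?_
  rw [show g⁻¹ * z * g * z = g⁻¹ * (z * g * z) by group, hinv]
  exact odd_orderOf (K := Subgroup.zpowers g) (by rwa [Nat.card_zpowers])
    (mul_mem (inv_mem (Subgroup.mem_zpowers g)) (inv_mem (Subgroup.mem_zpowers g)))

theorem mem_N_of_commute {z g : G} (hz : IsInv z) (hzc : z • c = c) (hgo : Odd (orderOf g))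
    (he : g * z = z * g) : g ∈ N c := mem_N_of_odd hC (hC.cent c z g hz hzc he) hgo

theorem two_decomp (hb : b ≠ a) {h : G} (hh : h • a = a) :
    ∃ d ∈ (two a b : Subgroup G), d⁻¹ * h ∈ M a := by
  obtain ⟨z, hz, hza⟩ := exists_inv_at hC.act a
  obtain ⟨d, hd, he⟩ := exists_conj_stab hC.act hz hza (hz.conj h)
    (by rw [mul_smul, mul_smul, inv_smul_eq_iff.mpr hh.symm, hza, hh]) hb.symm
  refine ⟨d, hd, hC.cent a z _ hz hza ?_⟩
  calc d⁻¹ * h * z = d⁻¹ * (h * z * h⁻¹) * h := by group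
    _ = z * (d⁻¹ * h) := by rw [← he]; group

/-- `M a` is proper in the stabiliser. -/
theorem exists_not_mem_M [FaithfulSMul G Ω] (a : Ω) : ∃ h : G, h • a = a ∧ h ∉ M a := by
  by_contra hall
  push Not at hall
  obtain ⟨u, v, hu, hv, huv, hu2, hv2, hc⟩ := hC.act.four
  obtain ⟨w, hw⟩ := exists_fix hC.act ⟨hu, hu2⟩
  haveI := hC.act.trans
  obtain ⟨g, rfl⟩ := exists_smul_eq G w a
  have hi : IsInv (g * u * g⁻¹) := IsInv.conj ⟨hu, hu2⟩ g
  have hj : IsInv (g * v * g⁻¹) := IsInv.conj ⟨hv, hv2⟩ g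
  have hvw : v • w = w := commute_fix hC.act ⟨hu, hu2⟩ hw hc.symm
  obtain ⟨b, hb⟩ := exists_ne (a := g • w) hC.act
  obtain ⟨d, hd, he⟩ := exists_conj_stab hC.act hi (smul_conj hw) hj (smul_conj hvw) hb.symm
  have hdN : d ∈ N (g • w) :=
    mem_N_of_odd hC (hall d (mem_two.mp hd).1) (odd_orderOf (odd_two hC.act hb.symm) hd)
  have hmem : (g * v * g⁻¹) * (g * u * g⁻¹) ∈ N (g • w) := by
    rw [← he, show d * (g * u * g⁻¹) * d⁻¹ * (g * u * g⁻¹) =
      d * ((g * u * g⁻¹) * d⁻¹ * (g * u * g⁻¹)) by group]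
    refine mul_mem hdN ?_
    have := conj_N hC (smul_conj hw (g := g)) (inv_mem hdN)
    rwa [hi.inv] at this
  have h2 : ((g * v * g⁻¹) * (g * u * g⁻¹)) * ((g * v * g⁻¹) * (g * u * g⁻¹)) = 1 := by
    rw [show ((g * v * g⁻¹) * (g * u * g⁻¹)) * ((g * v * g⁻¹) * (g * u * g⁻¹)) =
      g * (v * u * (v * u)) * g⁻¹ by group, show v * u * (v * u) = v * (u * v) * u by group, hc,
      show v * (v * u) * u = (v * v) * (u * u) by group, hv2, hu2]
    group
  have h1 := eq_one_of_two_odd (by rw [pow_two]; exact h2) (odd_orderOf (hC.oddN _) hmem)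
  rw [mul_eq_one_iff_eq_inv, hi.inv] at h1
  exact huv (mul_left_cancel (mul_right_cancel h1)).symm

end Core

end CfsgLib.Bender.OddCore
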