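import Cfsg.Agent.Lib.Bender.OddCore.Fpf

/-!
A subgroup of prime power order moving `N` fixes at most two points, for a prime moving `N`; the point stabiliser is
transitive on the other points.

Blueprint: `blueprint/bender/E_OddCore.md`, step A.
-/

set_option autoImplicit false
set_option linter.unusedSectionVars false
set_option linter.style.haveILetI false

namespace CfsgLib.Bender.OddCore

open MulAction Cfsg CfsgLib.SuzukiRankOne
open CfsgLib.Bender.TwoClosed (IsInv IsInv.inv IsInv.conj IsInv.smul_twice two InvAt Swap smul_conj mem_two mem_two_comm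
  exists_inv_of_even odd_card_of_forall odd_orderOf eq_one_of_two_odd eq_one_of_inv_eq MaxP exists_maxP maxP_of_card
  exists_invariant_maxP mem_normalizer_of_conj conj_mem_of_normalizer exists_mem_normalizer fixSet fixSet_smul
  mem_of_sq_mem odd_orderOf_of_pGroup)

universe u v

variable {G : Type u} {Ω : Type v} [Group G] [Finite G] [MulAction G Ω] {N M : Ω → Subgroup G} {q : ℕ}
  [Fact q.Prime]

/-- A `q`-subgroup with three fixed points that is not contained in the core at one of its fixed points. -/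
def Bad (q : ℕ) (N : Ω → Subgroup G) (Y : Subgroup G) : Prop :=
  IsPGroup q Y ∧ (∃ x ∈ fixSet Ω Y, ¬ Y ≤ N x) ∧
    ∃ c ∈ fixSet Ω Y, ∃ d ∈ fixSet Ω Y, ∃ e ∈ fixSet Ω Y, c ≠ d ∧ c ≠ e ∧ d ≠ e

/-- An involution normalising an odd subgroup normalises one of its Sylow subgroups above a given normalised
`q`-subgroup. -/
theorem exists_invariant_above {K R : Subgroup G} {z : G} (hK : Odd (Nat.card K)) (hz : z * z = 1)
    (hzK : z ∈ Subgroup.normalizer (K : Set G)) (hR : IsPGroup q R) (hRK : R ≤ K)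
    (hzR : z ∈ Subgroup.normalizer (R : Set G)) :
    ∃ P, R ≤ P ∧ MaxP q K P ∧ z ∈ Subgroup.normalizer (P : Set G) := by
  obtain ⟨P, hRP, hP⟩ := Finite.exists_le_maximal
    (p := fun P : Subgroup G => IsPGroup q P ∧ P ≤ K ∧ z ∈ Subgroup.normalizer (P : Set G)) (a := R)
    ⟨hR, hRK, hzR⟩
  obtain ⟨hPp, hPK, hzP⟩ := hP.prop
  refine ⟨P, hRP, ?_, hzP⟩
  by_contra hmax
  obtain ⟨Z, hPZ, hZ⟩ := exists_maxP hPp hPK
  obtain ⟨n, hnZ, hnP, hnn⟩ := exists_mem_normalizer hZ.isPGroup (hPZ.lt_of_ne fun e => hmax (e ▸ hZ))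
  set L : Subgroup G := K ⊓ Subgroup.normalizer (P : Set G)
  obtain ⟨R', hR', hzR'⟩ := exists_invariant_maxP (p := q) (K := L)
    (hK.of_dvd_nat (Subgroup.card_dvd_of_le inf_le_left)) hz fun k hk => ⟨conj_mem_of_normalizer hzK hk.1,
      (Subgroup.normalizer (P : Set G)).mul_mem
        ((Subgroup.normalizer (P : Set G)).mul_mem hzP hk.2) (inv_mem hzP)⟩
  have hPR' : P ≤ R' := by
    have h1 := hR'.eq_of_le (hR'.isPGroup.to_sup_of_normal_right' hPp (hR'.le.trans inf_le_right))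
      (sup_le hR'.le (le_inf hPK Subgroup.le_normalizer)) le_sup_left
    exact le_sup_right.trans h1.le
  have h2 := hP.eq_of_ge ⟨hR'.isPGroup, hR'.le.trans inf_le_left, hzR'⟩ hPR'
  have hmaxP : MaxP q L P := h2 ▸ hR'
  have h3 := hmaxP.eq_of_le (hZ.isPGroup.to_le (sup_le hPZ (Subgroup.zpowers_le.mpr hnZ)))
    (sup_le (le_inf hPK Subgroup.le_normalizer) (Subgroup.zpowers_le.mpr ⟨hZ.le hnZ, hnn⟩)) le_sup_left
  exact hnP ((le_sup_right : _ ≤ P ⊔ Subgroup.zpowers n).trans h3.le (Subgroup.mem_zpowers n))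

section Pair

variable (hA : Act G Ω) (hq2 : q ≠ 2) {Y : Subgroup G} (hY : IsPGroup q Y)
include hA hq2 hY

/-- Two fixed points: the subgroup is Sylow in the two-point stabiliser or is properly contained in a `q`-subgroup
of its normaliser fixing both. -/
theorem exact_or_bigger {c d : Ω} (hc : c ∈ fixSet Ω Y) (hd : d ∈ fixSet Ω Y) (hne : c ≠ d) :
    MaxP q (two c d) Y ∨
      ∃ Y', Y < Y' ∧ MaxP q (Subgroup.normalizer (Y : Set G) ⊓ two c d) Y' := by
  have hYD : Y ≤ two c d := fun x hx => mem_two.mpr ⟨hc x hx, hd x hx⟩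
  obtain ⟨Z, hYZ, hZ⟩ := exists_maxP hY (le_inf Subgroup.le_normalizer hYD :
    Y ≤ Subgroup.normalizer (Y : Set G) ⊓ two c d)
  rcases hYZ.eq_or_lt with rfl | hlt
  · left
    obtain ⟨W, hYW, hW⟩ := exists_maxP hY hYD
    rcases hYW.eq_or_lt with rfl | hlt'
    · exact hW
    obtain ⟨g, hg, hgY, hgn⟩ := exists_mem_normalizer hW.isPGroup hlt'
    have h2 := hZ.eq_of_le (hW.isPGroup.to_le (sup_le hYW (Subgroup.zpowers_le.mpr hg)))
      (sup_le (le_inf Subgroup.le_normalizer hYD) (Subgroup.zpowers_le.mpr ⟨hgn, hW.le hg⟩)) le_sup_left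
    exact absurd ((le_sup_right : _ ≤ Y ⊔ Subgroup.zpowers g).trans h2.le (Subgroup.mem_zpowers g)) hgY
  · exact Or.inr ⟨Z, hlt, hZ⟩

/-- If the larger subgroup has exactly two fixed points it is Sylow in the normaliser. -/
theorem pair (ih : ∀ Y' : Subgroup G, Y < Y' → ¬ Bad q N Y') {c d : Ω} (hc : c ∈ fixSet Ω Y)
    (hd : d ∈ fixSet Ω Y) (hne : c ≠ d) (hcN : ¬ Y ≤ N c) :
    MaxP q (two c d) Y ∨
      ∃ P, MaxP q (Subgroup.normalizer (Y : Set G)) P ∧ Y < P ∧ c ∈ fixSet Ω P ∧ d ∈ fixSet Ω P ∧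
        ∀ e ∈ fixSet Ω P, e = c ∨ e = d := by
  rcases exact_or_bigger hA hq2 hY hc hd hne with h | ⟨Z, hlt, hZ⟩
  · exact Or.inl h
  right
  have hcZ : c ∈ fixSet Ω Z := fun x hx => (mem_two.mp (hZ.le hx).2).1
  have hdZ : d ∈ fixSet Ω Z := fun x hx => (mem_two.mp (hZ.le hx).2).2
  have honly : ∀ e ∈ fixSet Ω Z, e = c ∨ e = d := fun e he => by
    by_contra h
    push Not at h
    exact ih Z hlt ⟨hZ.isPGroup, ⟨c, hcZ, fun hle => hcN (hlt.le.trans hle)⟩, c, hcZ, d, hdZ, e, he, hne,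
      Ne.symm h.1, Ne.symm h.2⟩
  obtain ⟨P, hZP, hP⟩ := exists_maxP hZ.isPGroup (hZ.le.trans inf_le_left :
    Z ≤ Subgroup.normalizer (Y : Set G))
  rcases hZP.eq_or_lt with rfl | hlt'
  · exact ⟨Z, hP, hlt, hcZ, hdZ, honly⟩
  exfalso
  obtain ⟨g, hg, hgZ, hgn⟩ := exists_mem_normalizer hP.isPGroup hlt'
  have hgc : g • c = c := by
    refine mem_stabilizer_iff.mp (mem_of_sq_mem (odd_orderOf_of_pGroup hq2 hP.isPGroup hg)
      (mem_stabilizer_iff.mpr ?_))
    rw [mul_smul]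
    rcases honly _ (fixSet_smul hgn hcZ) with e | e
    · rw [e, e]
    · rw [e]
      rcases honly _ (fixSet_smul hgn hdZ) with e' | e'
      · exact e'
      · exact absurd (smul_left_cancel g (e'.trans e.symm)) hne.symm
  have hgd : g • d = d := by
    rcases honly _ (fixSet_smul hgn hdZ) with e | e
    · exact absurd (smul_left_cancel g (e.trans hgc.symm)) hne.symm
    · exact e
  have h2 := hZ.eq_of_le (hP.isPGroup.to_le (sup_le hZP (Subgroup.zpowers_le.mpr hg)))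
    (sup_le hZ.le (Subgroup.zpowers_le.mpr ⟨hP.le hg, mem_two.mpr ⟨hgc, hgd⟩⟩)) le_sup_left
  exact hgZ ((le_sup_right : _ ≤ Z ⊔ Subgroup.zpowers g).trans h2.le (Subgroup.mem_zpowers g))

end Pair

section Core

variable (hC : Core G Ω N M) (hq2 : q ≠ 2) (hmv : Moves q N)
include hC hq2 hmv

/-- The case of a fixed point at which the subgroup lies in the core. -/
theorem bad_core_point {Y : Subgroup G} (ih : ∀ Y' : Subgroup G, Y < Y' → ¬ Bad q N Y') (hY : IsPGroup q Y)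
    {a g : Ω} (ha : a ∈ fixSet Ω Y) (haN : ¬ Y ≤ N a) (hg : g ∈ fixSet Ω Y) (hgN : Y ≤ N g)
    {c d e : Ω} (hc : c ∈ fixSet Ω Y) (hd : d ∈ fixSet Ω Y) (he : e ∈ fixSet Ω Y) (hcd : c ≠ d) (hce : c ≠ e)
    (hde : d ≠ e) : False := by
  set X := Subgroup.normalizer (Y : Set G) with hX
  have hequiv : ∀ {h : G}, h ∈ X → ∀ {x : Ω}, Y ≤ N x → Y ≤ N (h • x) := fun {h} hh {x} hx y hy => by
    have h1 := (Subgroup.mem_normalizer_iff''.mp hh y).mp hy
    simpa [mul_assoc] using hC.conjN h x _ (hx h1)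
  have hequiv' : ∀ {h : G}, h ∈ X → ∀ {x : Ω}, Y ≤ N (h • x) → Y ≤ N x := fun {h} hh {x} hx => by
    simpa using hequiv (inv_mem hh) hx
  have hag : a ≠ g := fun h => haN (h ▸ hgN)
  obtain ⟨W, hW, hYW, haW, hgW, hWonly⟩ : ∃ P, MaxP q X P ∧ Y < P ∧ a ∈ fixSet Ω P ∧ g ∈ fixSet Ω P ∧
      ∀ e ∈ fixSet Ω P, e = a ∨ e = g := by
    rcases pair hC.act hq2 hY ih ha hg hag haN with h | h
    · exact absurd hgN (hmv g a hag.symm Y (by rwa [mem_two_comm] at h))
    · exact h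
  -- every Sylow subgroup of the normaliser fixes a point outside and the point inside
  have hSyl : ∀ P, MaxP q X P → ∃ h ∈ X, (∀ x ∈ fixSet Ω P, x = h • a ∨ x = h • g) ∧
      h • a ∈ fixSet Ω P ∧ h • g ∈ fixSet Ω P := by
    intro P hP
    obtain ⟨h, hh, hhP⟩ := hW.conj hP
    have hmap : ∀ {r : Ω}, r ∈ fixSet Ω W → h • r ∈ fixSet Ω P := fun {r} hr x hx => by
      have h' := hr _ ((hhP (h⁻¹ * x * h)).mpr (by simpa [mul_assoc] using hx))
      rwa [mul_smul, mul_smul, inv_smul_eq_iff] at h'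
    refine ⟨h, hh, fun x hx => ?_, hmap haW, hmap hgW⟩
    have hx' : h⁻¹ • x ∈ fixSet Ω W := fun y hy => by
      have h' := hx _ ((hhP y).mp hy)
      rw [mul_smul, mul_smul] at h'
      exact smul_left_cancel h (h'.trans (smul_inv_smul h x).symm)
    rcases hWonly _ hx' with h' | h'
    · exact Or.inl (inv_smul_eq_iff.mp h')
    · exact Or.inr (inv_smul_eq_iff.mp h')
  have hout : ∀ {x x' : Ω}, x ∈ fixSet Ω Y → x' ∈ fixSet Ω Y → x ≠ x' → ¬ Y ≤ N x → ¬ Y ≤ N x' →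
      MaxP q (two x x') Y := by
    intro x x' hx hx' hne hxN hxN'
    rcases pair hC.act hq2 hY ih hx hx' hne hxN with h | ⟨P, hP, -, hxP, hxP', -⟩
    · exact h
    obtain ⟨h, hh, honly, -, -⟩ := hSyl P hP
    have key : ∀ {y : Ω}, y ∈ fixSet Ω P → ¬ Y ≤ N y → y = h • a := fun {y} hy hyN =>
      (honly y hy).resolve_right fun e => hyN (e ▸ hequiv hh hgN)
    exact absurd ((key hxP hxN).trans (key hxP' hxN').symm) hne
  have hin : ∀ {x : Ω}, x ∈ fixSet Ω Y → Y ≤ N x → x = g := by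
    intro x hx hxN
    by_contra hne
    rcases exact_or_bigger hC.act hq2 hY hx hg hne with h | ⟨Z, hlt, hZ⟩
    · exact hmv x g hne Y h hxN
    obtain ⟨P, hZP, hP⟩ := exists_maxP hZ.isPGroup (hZ.le.trans inf_le_left : Z ≤ X)
    obtain ⟨h, hh, -, haP, -⟩ := hSyl P hP
    have hhaN : ¬ Y ≤ N (h • a) := fun e => haN (hequiv' hh e)
    exact ih Z hlt ⟨hZ.isPGroup, ⟨h • a, fun y hy => haP y (hZP hy), fun hle => hhaN (hlt.le.trans hle)⟩,
      x, fun y hy => (mem_two.mp (hZ.le hy).2).1, g, fun y hy => (mem_two.mp (hZ.le hy).2).2,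
      h • a, fun y hy => haP y (hZP hy), hne, fun e => hhaN (e ▸ hxN), fun e => hhaN (e ▸ hgN)⟩
  obtain ⟨a₁, a₂, h1, h2, h12, h1g, h2g⟩ : ∃ a₁ a₂, a₁ ∈ fixSet Ω Y ∧ a₂ ∈ fixSet Ω Y ∧ a₁ ≠ a₂ ∧
      a₁ ≠ g ∧ a₂ ≠ g := by
    by_cases hc' : c = g
    · exact ⟨d, e, hd, he, hde, fun h => hcd (hc'.trans h.symm), fun h => hce (hc'.trans h.symm)⟩
    by_cases hd' : d = g
    · exact ⟨c, e, hc, he, hce, hc', fun h => hde (hd'.trans h.symm)⟩
    · exact ⟨c, d, hc, hd, hcd, hc', hd'⟩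
  have hYD := hout h1 h2 h12 (fun h => h1g (hin h1 h)) (fun h => h2g (hin h2 h))
  obtain ⟨z, hzX, hz, hz1⟩ := swap_maxP hC.act h12.symm hYD
  have hzg : z • g = g := hin (fixSet_smul hzX hg) (hequiv hzX hgN)
  have hzN : z ∈ Subgroup.normalizer (N g : Set G) :=
    mem_normalizer_of_conj fun k hk => conj_N hC hzg hk
  obtain ⟨P, hP, hzP⟩ := exists_invariant_maxP (p := q) (K := X ⊓ N g)
    ((hC.oddN g).of_dvd_nat (Subgroup.card_dvd_of_le inf_le_right)) hz.2 fun k hk =>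
      ⟨X.mul_mem (X.mul_mem hzX hk.1) (X.inv_mem hzX), conj_mem_of_normalizer hzN hk.2⟩
  have hYP : Y ≤ P := by
    have h := hP.eq_of_le (hP.isPGroup.to_sup_of_normal_right' hY (hP.le.trans inf_le_left))
      (sup_le hP.le (le_inf Subgroup.le_normalizer hgN)) le_sup_left
    exact le_sup_right.trans h.le
  have hPY : P = Y := by
    obtain ⟨P', hPP', hP'⟩ := exists_maxP hP.isPGroup (hP.le.trans inf_le_left : P ≤ X)
    obtain ⟨h, hh, -, haP, -⟩ := hSyl P' hP'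
    have hhaN : ¬ Y ≤ N (h • a) := fun e => haN (hequiv' hh e)
    have haP' : h • a ∈ fixSet Ω P := fun y hy => haP y (hPP' hy)
    by_contra hne
    have hne1 : h • a ≠ g := fun e => hhaN (e ▸ hgN)
    exact ih P (hYP.lt_of_ne (Ne.symm hne)) ⟨hP.isPGroup, ⟨h • a, haP', fun hle => hhaN (hYP.trans hle)⟩,
      h • a, haP', z • h • a, fixSet_smul hzP haP', g, fun y hy => smul_of_N hC (hP.le hy).2,
      fun e => hne1 (eq_of_fix hC.act hz e.symm hzg), hne1,
      fun e => hne1 (smul_left_cancel z (e.trans hzg.symm))⟩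
  have hYN : MaxP q (N g) Y := by
    obtain ⟨Q, hYQ, hQ⟩ := exists_maxP hY hgN
    rcases hYQ.eq_or_lt with rfl | hlt
    · exact hQ
    obtain ⟨n, hn, hnY, hnn⟩ := exists_mem_normalizer hQ.isPGroup hlt
    have h' := (hPY ▸ hP).eq_of_le (hQ.isPGroup.to_le (sup_le hYQ (Subgroup.zpowers_le.mpr hn)))
      (sup_le (le_inf Subgroup.le_normalizer hgN) (Subgroup.zpowers_le.mpr ⟨hnn, hQ.le hn⟩)) le_sup_left
    exact absurd ((le_sup_right : _ ≤ Y ⊔ Subgroup.zpowers n).trans h'.le (Subgroup.mem_zpowers n)) hnY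
  -- the Sylow subgroup of the centraliser of `z` in `N g` embeds in `Y`
  obtain ⟨R, -, hR⟩ := exists_maxP (IsPGroup.of_bot (p := q)) (bot_le : (⊥ : Subgroup G) ≤ N g ⊓ cz z)
  have hcard : Nat.card R ≤ Nat.card ↥(Y ⊓ cz z) := by
    obtain ⟨P₁, hRP₁, hP₁, hzP₁⟩ := exists_invariant_above (hC.oddN g) hz.2 hzN hR.isPGroup
      (hR.le.trans inf_le_left) (mem_normalizer_of_conj fun x hx => by
        rw [show z * x * z⁻¹ = x by rw [← mem_cz.mp (hR.le hx).2, mul_inv_cancel_right]]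
        exact hx)
    obtain ⟨h, hh, hhP⟩ := hYN.conj hP₁
    have hw : h⁻¹ * z * h * z ∈ N g ⊓ X := by
      refine ⟨?_, mem_normalizer_of_conj fun x hx => ?_⟩
      · have := conj_mem_of_normalizer hzN hh
        rw [hz.inv] at this
        simpa [mul_assoc] using mul_mem (inv_mem hh) this
      · refine (hhP _).mpr ?_
        have h1 : h * (z * x * z⁻¹) * h⁻¹ ∈ P₁ := (hhP _).mp (conj_mem_of_normalizer hzX hx)
        have h2 := conj_mem_of_normalizer hzP₁ h1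
        rw [hz.inv] at h2
        rw [mul_inv_rev, mul_inv_rev, mul_inv_rev, inv_inv, hz.inv]
        simpa [mul_assoc] using h2
    obtain ⟨v, hv, hvz⟩ := exists_cent hz (odd_orderOf (hC.oddN g) hw.1)
    have hvX : v ∈ X := Subgroup.zpowers_le.mpr hw.2 hv
    rw [← Subgroup.card_map_of_injective (K := R) (f := (MulAut.conj (h * v)⁻¹).toMonoidHom)
      (MulAut.conj _).injective]
    refine Nat.le_of_dvd Nat.card_pos (Subgroup.card_dvd_of_le ?_)
    rintro _ ⟨x, hx, rfl⟩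
    have hxz : x * z = z * x := mem_cz.mp (hR.le hx).2
    simp only [MulEquiv.coe_toMonoidHom, MulAut.conj_apply, inv_inv]
    refine ⟨?_, mem_cz.mpr ?_⟩
    · have h1 : h⁻¹ * x * h ∈ Y := (hhP _).mpr (by simpa [mul_assoc] using hRP₁ hx)
      have h2 := conj_mem_of_normalizer (inv_mem hvX) h1
      simpa [mul_assoc] using h2
    · calc (h * v)⁻¹ * x * (h * v) * z = (h * v)⁻¹ * (x * z) * (h * v) := by
            rw [mul_assoc _ (h * v) z, hvz]; group
        _ = (h * v)⁻¹ * z * x * (h * v) := by rw [hxz]; group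
        _ = (h * v)⁻¹ * (z * (h * v)) * ((h * v)⁻¹ * x * (h * v)) := by group
        _ = z * ((h * v)⁻¹ * x * (h * v)) := by rw [← hvz]; group
  have hD1 := card_two_at hC.act h1g hz hzg
  have hD2 := card_two_eq hC.act h12.symm hz hz1
  rw [card_invAt_eq (a := g) hC.act a₁] at hD2
  obtain ⟨T, hYT, hT⟩ := exists_maxP hY (fun y hy => mem_two.mpr ⟨hg y hy, h1 y hy⟩ : Y ≤ two g a₁)
  rcases hYT.eq_or_lt with rfl | hlt
  · exact hmv g a₁ h1g.symm Y hT hgN
  have hTY : Nat.card T ≤ Nat.card Y := by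
    rw [hT.card, hYD.card]
    refine pow_le_pow_right₀ (Fact.out : q.Prime).one_lt.le ?_
    rw [hD1, hD2, Nat.factorization_mul (left_ne_zero_of_mul (hD1 ▸ Nat.card_pos.ne'))
      Nat.card_pos.ne', Nat.factorization_mul (left_ne_zero_of_mul (hD1 ▸ Nat.card_pos.ne')) Nat.card_pos.ne',
      Finsupp.add_apply, Finsupp.add_apply]
    refine Nat.add_le_add_left ?_ _
    have hle1 : (two g a₁ : Subgroup G) ⊓ cz z ≤ N g ⊓ cz z := fun x hx =>
      ⟨mem_N_of_commute hC hz hzg (odd_orderOf (odd_two hC.act h1g.symm) hx.1) (mem_cz.mp hx.2), hx.2⟩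
    have hle2 : Y ⊓ cz z ≤ two a₁ a₂ ⊓ cz z := fun x hx => ⟨hYD.le hx.1, hx.2⟩
    refine le_trans ((Nat.factorization_le_iff_dvd Nat.card_pos.ne' Nat.card_pos.ne').mpr
      (Subgroup.card_dvd_of_le hle1) q) ?_
    obtain ⟨Q, hYQ, hQ⟩ := exists_maxP (hY.to_le (inf_le_left : Y ⊓ cz z ≤ Y)) hle2
    have h := hcard.trans (Nat.le_of_dvd Nat.card_pos (Subgroup.card_dvd_of_le hYQ))
    rw [hR.card, hQ.card] at h
    exact (Nat.pow_le_pow_iff_right (Fact.out : q.Prime).one_lt).mp h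
  exact absurd (Subgroup.eq_of_le_of_card_ge hYT hTY) hlt.ne

/-- No subgroup is bad. -/
theorem not_bad : ∀ Y : Subgroup G, ¬ Bad q N Y := by
  intro Y
  induction Y using WellFoundedGT.induction with
  | _ Y ih =>
  rintro ⟨hY, ⟨a, ha, haN⟩, c, hc, d, hd, e, he, hcd, hce, hde⟩
  by_cases hΦ : ∃ g ∈ fixSet Ω Y, Y ≤ N g
  · obtain ⟨g, hg, hgN⟩ := hΦ
    exact bad_core_point hC hq2 hmv ih hY ha haN hg hgN hc hd he hcd hce hde
  push Not at hΦ
  have hYodd : Odd (Nat.card Y) := by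
    obtain ⟨k, hk⟩ := IsPGroup.iff_card.mp hY
    exact hk ▸ ((Fact.out : q.Prime).odd_of_ne_two hq2).pow
  refine fix_le_two hC.act hYodd (fun x hx hxi r hr hxr => hΦ r hr
    (le_N_of_normalised hC hYodd (fun y hy => hr y hy) hxi hxr hx)) hq2 (fun x hx y hy hne => ?_)
    hc hd he hcd hce hde
  rcases pair hC.act hq2 hY ih hx hy hne (hΦ x hx) with h | ⟨P, hP, -, hxP, hyP, honly⟩
  · obtain ⟨w, hw, hwi, hwx⟩ := swap_maxP hC.act hne.symm h
    exact Or.inl ⟨w, hw, hwi, hwx⟩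
  · exact Or.inr ⟨P, hP, hxP, hyP, fun e he _ => honly e he⟩

variable {a b : Ω}

/-- A Sylow subgroup of a two-point stabiliser fixes only the two points. -/
theorem fix_maxP (hb : b ≠ a) {T : Subgroup G} (hT : MaxP q (two a b) T) {e : Ω} (he : e ∈ fixSet Ω T) :
    e = a ∨ e = b := by
  by_contra h
  push Not at h
  have haT : a ∈ fixSet Ω T := fun x hx => (mem_two.mp (hT.le hx)).1
  have hbT : b ∈ fixSet Ω T := fun x hx => (mem_two.mp (hT.le hx)).2
  exact not_bad hC hq2 hmv T ⟨hT.isPGroup, ⟨a, haT, hmv a b hb.symm T hT⟩, a, haT, b, hbT, e, he, hb.symm,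
    Ne.symm h.1, Ne.symm h.2⟩

theorem maxP_stab (hb : b ≠ a) {T : Subgroup G} (hT : MaxP q (two a b) T) :
    MaxP q (stabilizer G a) T := by
  obtain ⟨P, hTP, hP⟩ := exists_maxP hT.isPGroup (hT.le.trans inf_le_left : T ≤ stabilizer G a)
  rcases hTP.eq_or_lt with rfl | hlt
  · exact hP
  obtain ⟨g, hg, hgT, hgn⟩ := exists_mem_normalizer hP.isPGroup hlt
  have hga : g • a = a := mem_stabilizer_iff.mp (hP.le hg)
  have hgb : g • b = b := (fix_maxP hC hq2 hmv hb hT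
    (fixSet_smul hgn fun x hx => (mem_two.mp (hT.le hx)).2)).resolve_left
      fun e => hb (smul_left_cancel g (e.trans hga.symm))
  have h2 := hT.eq_of_le (hP.isPGroup.to_le (sup_le hTP (Subgroup.zpowers_le.mpr hg)))
    (sup_le hT.le (Subgroup.zpowers_le.mpr (mem_two.mpr ⟨hga, hgb⟩))) le_sup_left
  exact absurd ((le_sup_right : _ ≤ T ⊔ Subgroup.zpowers g).trans h2.le (Subgroup.mem_zpowers g)) hgT

/-- The stabiliser of a point is transitive on the other points. -/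
theorem transitive_stab (hb : b ≠ a) {c : Ω} (hc : c ≠ a) : ∃ h : G, h • a = a ∧ h • b = c := by
  obtain ⟨T, -, hT⟩ := exists_maxP (IsPGroup.of_bot (p := q)) (bot_le : (⊥ : Subgroup G) ≤ two a b)
  obtain ⟨T', -, hT'⟩ := exists_maxP (IsPGroup.of_bot (p := q)) (bot_le : (⊥ : Subgroup G) ≤ two a c)
  obtain ⟨h, hh, hhT⟩ := (maxP_stab hC hq2 hmv hb hT).conj (maxP_stab hC hq2 hmv hc hT')
  have hha := mem_stabilizer_iff.mp hh
  refine ⟨h, hha, (fix_maxP hC hq2 hmv hc hT' fun x hx => ?_).resolve_left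
    fun e => hb (smul_left_cancel h (e.trans hha.symm))⟩
  have h' := (mem_two.mp (hT.le ((hhT (h⁻¹ * x * h)).mpr (by simpa [mul_assoc] using hx)))).2
  rwa [mul_smul, mul_smul, inv_smul_eq_iff] at h'

end Core

end CfsgLib.Bender.OddCore
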