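import Cfsg.Agent.Lib.Bender.OddCore.Sub
import Cfsg.Agent.Lib.PSolvable
import Cfsg.Agent.Lib.Bender.ConsReduce

/-!
The involutions of a point stabiliser centralise the odd core.

Blueprint: `blueprint/bender/E_OddCore.md`, step B.
-/

set_option autoImplicit false
set_option linter.unusedSectionVars false
set_option linter.style.haveILetI false

namespace CfsgLib.Bender.OddCore

open MulAction Cfsg CfsgLib.SuzukiRankOne
open CfsgLib.Bender.TwoClosed (IsInv IsInv.inv IsInv.conj IsInv.smul_twice two InvAt Swap smul_conj mem_two mem_two_comm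
  exists_inv_of_even odd_card_of_forall odd_orderOf eq_one_of_two_odd eq_one_of_inv_eq MaxP exists_maxP maxP_of_card
  exists_invariant_maxP mem_normalizer_of_conj conj_mem_of_normalizer exists_mem_normalizer fixSet fixSet_smul
  mem_of_sq_mem odd_orderOf_of_pGroup)

universe u v

variable {G : Type u} {Ω : Type v} [Group G] [Finite G] [MulAction G Ω] [FaithfulSMul G Ω]
  {N M : Ω → Subgroup G} {a b : Ω} (hC : Core G Ω N M)
include hC

theorem two_transitive {x y x' y' : Ω} (h : y ≠ x) (h' : y' ≠ x') : ∃ g : G, g • x = x' ∧ g • y = y' := by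
  obtain ⟨q, hq, hq2, hdvd⟩ := exists_moving_prime hC x
  haveI : Fact q.Prime := ⟨hq⟩
  haveI := hC.act.trans
  obtain ⟨k, rfl⟩ := exists_smul_eq G x x'
  have hne : k⁻¹ • y' ≠ x := fun e => h' (inv_smul_eq_iff.mp e)
  obtain ⟨g, hgx, hgy⟩ := transitive_stab hC hq2 (moves_of_dvd hC x hdvd) h hne
  exact ⟨k * g, by rw [mul_smul, hgx], by rw [mul_smul, hgy, smul_inv_smul]⟩

theorem card_two_const {x y x' y' : Ω} (h : y ≠ x) (h' : y' ≠ x') :
    Nat.card (two x y : Subgroup G) = Nat.card (two x' y' : Subgroup G) := by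
  obtain ⟨g, rfl, rfl⟩ := two_transitive hC h h'
  rw [two, two, stabilizer_smul_eq_stabilizer_map_conj, stabilizer_smul_eq_stabilizer_map_conj,
    ← Subgroup.map_inf _ _ _ (MulAut.conj g).injective, Subgroup.card_map_of_injective (MulAut.conj g).injective]

/-- A `p`-subgroup of the stabiliser lies in `N` if `p` does not divide the index of `M`. -/
theorem pgroup_le_N {p : ℕ} [Fact p.Prime] (hp2 : p ≠ 2) (hp : ¬ p ∣ (M a).relIndex (stabilizer G a))
    {R : Subgroup G} (hR : IsPGroup p R) {c : Ω} (hRc : ∀ x ∈ R, x • c = c) : R ≤ N c := fun x hx => by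
  refine mem_N_of_odd hC ?_ (odd_orderOf_of_pGroup hp2 hR hx)
  haveI : ((M c).subgroupOf (stabilizer G c)).Normal :=
    ⟨fun m hm g => conj_M hC (mem_stabilizer_iff.mp g.2) hm⟩
  have h1 : x ^ (M c).relIndex (stabilizer G c) ∈ M c :=
    Subgroup.pow_index_mem ((M c).subgroupOf (stabilizer G c)) ⟨x, mem_stabilizer_iff.mpr (hRc x hx)⟩
  obtain ⟨k, hk⟩ := hR ⟨x, hx⟩
  have h2 : x ^ p ^ k = 1 := congrArg Subtype.val hk
  rw [relIndex_eq hC a c] at h1
  have hco : ((M a).relIndex (stabilizer G a)).Coprime (p ^ k) :=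
    (((Fact.out : p.Prime).coprime_iff_not_dvd.mpr hp).pow_left k).symm
  obtain ⟨e, he1, he0⟩ := Nat.chineseRemainder hco 0 1
  obtain ⟨l, rfl⟩ := Nat.modEq_zero_iff_dvd.mp he1
  have h3 : x ^ ((M a).relIndex (stabilizer G a) * l) = x := by
    conv_rhs => rw [← pow_one x]
    exact pow_eq_pow_iff_modEq.mpr (he0.of_dvd (orderOf_dvd_of_pow_eq_one h2))
  rw [← h3, pow_mul]
  exact pow_mem h1 l

/-- Step B for a normal `p`-subgroup of the core. -/
theorem pgroup_commute (ih : Below.{u, v} (Nat.card G)) {p : ℕ} [Fact p.Prime] {P : Subgroup G}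
    (hP : IsPGroup p P) (hPN : P ≤ N a) (hPn : ∀ h : G, h • a = a → ∀ x ∈ P, h * x * h⁻¹ ∈ P) {z : G}
    (hz : IsInv z) (hza : z • a = a) {x : G} (hx : x ∈ P) : x * z = z * x := by
  rcases eq_or_ne P ⊥ with rfl | hP0
  · rw [Subgroup.mem_bot.mp hx, one_mul, mul_one]
  have hp2 : p ≠ 2 := by
    rintro rfl
    obtain ⟨k, hk⟩ := IsPGroup.iff_card.mp hP
    rcases k.eq_zero_or_pos with rfl | hk0
    · exact hP0 (Subgroup.card_eq_one.mp (by rw [hk, pow_zero]))
    · exact Nat.not_even_iff_odd.mpr ((hC.oddN a).of_dvd_nat (Subgroup.card_dvd_of_le hPN))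
        (hk ▸ Nat.even_pow.mpr ⟨even_two, hk0.ne'⟩)
  obtain ⟨b, hb⟩ := exists_ne (a := a) hC.act
  obtain ⟨q, hq, hq2, hqdvd⟩ := exists_moving_prime hC a
  haveI : Fact q.Prime := ⟨hq⟩
  have hqmv := moves_of_dvd hC a hqdvd
  have hPH : P ≤ stabilizer G a := hPN.trans ((hC.N_le a).trans (hC.M_le a))
  have hPfix : ∀ T : Subgroup G, (∀ y ∈ T, y • a = a) → T ≤ Subgroup.normalizer (P : Set G) :=
    fun T hT y hy => mem_normalizer_of_conj fun w hw => hPn y (hT y hy) w hw
  have hPb : ¬ P ≤ two a b := by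
    intro hle
    refine hP0 ((Subgroup.eq_bot_iff_forall P).mpr fun y hy => eq_of_smul_eq_smul (α := Ω) fun c => ?_)
    rw [one_smul]
    rcases eq_or_ne c a with rfl | hc
    · exact mem_stabilizer_iff.mp (hPH hy)
    obtain ⟨h, hha, rfl⟩ := transitive_stab hC hq2 hqmv hb hc
    have h1 := (mem_two.mp (hle (hPn h⁻¹ (inv_smul_eq_iff.mpr hha.symm) y hy))).2
    rwa [inv_inv, mul_smul, mul_smul, inv_smul_eq_iff] at h1
  -- a Sylow subgroup of the stabiliser contains `P`
  have hsup : ∀ {K T : Subgroup G}, MaxP p K T → K ≤ stabilizer G a → P ≤ K → P ≤ T := fun {K T} hT hK hPK => by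
    have h1 := hT.eq_of_le (hT.isPGroup.to_sup_of_normal_right' hP
      (hPfix T fun y hy => mem_stabilizer_iff.mp (hK (hT.le hy)))) (sup_le hT.le hPK) le_sup_left
    exact le_sup_right.trans h1.le
  have hpdvd : ¬ p ∣ (M a).relIndex (stabilizer G a) := fun hp => by
    obtain ⟨T, -, hT⟩ := exists_maxP (IsPGroup.of_bot (p := p)) (bot_le : (⊥ : Subgroup G) ≤ two a b)
    exact hPb ((hsup (maxP_stab hC hp2 (moves_of_dvd hC a hp) hb hT) le_rfl hPH).trans hT.le)
  obtain ⟨R, -, hR⟩ := exists_maxP (IsPGroup.of_bot (p := p)) (bot_le : (⊥ : Subgroup G) ≤ two a b)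
  have haR : a ∈ fixSet Ω R := fun y hy => (mem_two.mp (hR.le hy)).1
  have hbR : b ∈ fixSet Ω R := fun y hy => (mem_two.mp (hR.le hy)).2
  have hRN : R ≤ N a := pgroup_le_N hC hp2 hpdvd hR.isPGroup haR
  by_cases hR0 : R = ⊥
  · -- `p` does not divide the order of the two-point stabiliser
    have hndvd : ¬ p ∣ Nat.card (two a b : Subgroup G) := fun h => by
      have h1 := hR.card
      rw [hR0, Subgroup.card_bot] at h1
      exact (Nat.one_lt_pow ((Fact.out : p.Prime).factorization_pos_of_dvd Nat.card_pos.ne' h).ne'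
        (Fact.out : p.Prime).one_lt).ne h1
    set E : Subgroup G := two a b ⊓ N a
    have hidx : (cz z).relIndex E = (cz z).relIndex (N a) := by
      unfold Subgroup.relIndex Subgroup.index
      refine Nat.card_eq_of_bijective
        (Quotient.map' (Subgroup.inclusion (inf_le_right : E ≤ N a)) fun x y h => ?_) ⟨?_, ?_⟩
      · rw [QuotientGroup.leftRel_apply] at h ⊢
        exact h
      · intro x y h
        induction x using Quotient.inductionOn' with | h x =>
        induction y using Quotient.inductionOn' with | h y =>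
        rw [Quotient.map'_mk'', Quotient.map'_mk'', Quotient.eq'', QuotientGroup.leftRel_apply] at h
        exact Quotient.sound' (QuotientGroup.leftRel_apply.mpr h)
      · intro y
        induction y using Quotient.inductionOn' with | h y =>
        have hya : (y : G) • a = a := smul_of_N hC y.2
        obtain ⟨d, hd, he⟩ := exists_conj_stab hC.act hz hza (hz.conj (y : G))
          (by rw [mul_smul, mul_smul, inv_smul_eq_iff.mpr hya.symm, hza, hya]) hb.symm
        have hc : (d⁻¹ * y) * z = z * (d⁻¹ * y) := by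
          calc d⁻¹ * (y : G) * z = d⁻¹ * ((y : G) * z * (y : G)⁻¹) * y := by group
            _ = z * (d⁻¹ * y) := by rw [← he]; group
        have hdM : d ∈ M a := by
          rw [show d = (y : G) * (d⁻¹ * y)⁻¹ by group]
          exact mul_mem (hC.N_le a y.2) (inv_mem (hC.cent a z _ hz hza hc))
        refine ⟨Quotient.mk'' ⟨d, hd, mem_N_of_odd hC hdM (odd_orderOf (odd_two hC.act hb.symm) hd)⟩, ?_⟩
        rw [Quotient.map'_mk'', Quotient.eq'', QuotientGroup.leftRel_apply]
        exact mem_cz.mpr hc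
    obtain ⟨Q, -, hQ⟩ := exists_maxP (IsPGroup.of_bot (p := p)) (bot_le : (⊥ : Subgroup G) ≤ N a ⊓ cz z)
    have hQN : MaxP p (N a) Q := by
      refine maxP_of_card hQ.isPGroup (hQ.le.trans inf_le_left) ?_
      rw [hQ.card]
      congr 1
      have h1 : Nat.card ↥(N a ⊓ cz z) * (cz z).relIndex (N a) = Nat.card (N a) := by
        rw [← Subgroup.inf_relIndex_right, inf_comm (cz z), ← Subgroup.relIndex_bot_left,
          Subgroup.relIndex_mul_relIndex _ _ _ bot_le inf_le_left, Subgroup.relIndex_bot_left]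
      rw [← h1, Nat.factorization_mul Nat.card_pos.ne' (right_ne_zero_of_mul (h1 ▸ Nat.card_pos.ne')),
        Finsupp.add_apply, Nat.factorization_eq_zero_of_not_dvd (n := (cz z).relIndex (N a)), add_zero]
      exact fun h => hndvd ((hidx ▸ h).trans
        ((Subgroup.relIndex_dvd_card _ _).trans (Subgroup.card_dvd_of_le inf_le_left)))
    exact mem_cz.mp (hQ.le (hsup hQN ((hC.N_le a).trans (hC.M_le a)) hPN hx)).2
  exfalso
  set X := Subgroup.normalizer (R : Set G) with hX
  have hXtop : X ≠ ⊤ := fun e => hR0 ((Subgroup.eq_bot_iff_forall R).mpr fun y hy =>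
    eq_of_smul_eq_smul (α := Ω) fun c => by
      haveI := hC.act.trans
      obtain ⟨g, rfl⟩ := exists_smul_eq G a c
      rw [one_smul]
      exact fixSet_smul (show g ∈ Subgroup.normalizer (R : Set G) from hX ▸ e ▸ Subgroup.mem_top g) haR y hy)
  have hlt : R < R ⊔ P := lt_of_le_of_ne le_sup_left fun e => hPb (by
    have : P ≤ R := by rw [e]; exact le_sup_right
    exact this.trans hR.le)
  have hsupp : IsPGroup p ↥(R ⊔ P) := hR.isPGroup.to_sup_of_normal_right' hP (hPfix R haR)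
  obtain ⟨n, hn, hnR, hnX⟩ := exists_mem_normalizer hsupp hlt
  have hnN : n ∈ N a := sup_le hRN hPN hn
  have hna : n • a = a := smul_of_N hC hnN
  have hnb : n • b ≠ b := fun e => hnR ((le_sup_right : _ ≤ R ⊔ Subgroup.zpowers n).trans
    (hR.eq_of_le (hsupp.to_le (sup_le le_sup_left (Subgroup.zpowers_le.mpr hn)))
      (sup_le hR.le (Subgroup.zpowers_le.mpr (mem_two.mpr ⟨hna, e⟩))) le_sup_left).le (Subgroup.mem_zpowers n))
  have hsyl : ∀ {c d : Ω}, c ∈ fixSet Ω R → d ∈ fixSet Ω R → c ≠ d → MaxP p (two c d) R := by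
    intro c d hc hd hne
    refine maxP_of_card hR.isPGroup (fun y hy => mem_two.mpr ⟨hc y hy, hd y hy⟩) ?_
    rw [card_two_const hC hne.symm hb, hR.card]
  have hswap : ∀ {c d : Ω}, c ∈ fixSet Ω R → d ∈ fixSet Ω R → c ≠ d → ∃ w ∈ X, IsInv w ∧ w • c = d :=
    fun hc hd hne => swap_maxP hC.act hne.symm (hsyl hc hd hne)
  have hRodd : Odd (Nat.card R) := by
    obtain ⟨k, hk⟩ := IsPGroup.iff_card.mp hR.isPGroup
    exact hk ▸ ((Fact.out : p.Prime).odd_of_ne_two hp2).pow
  by_cases hfpf : ∀ w ∈ X, IsInv w → ∀ r ∈ fixSet Ω R, w • r ≠ r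
  · exact fix_le_two hC.act hRodd hfpf hp2 (fun c hc d hd hne => Or.inl (hswap hc hd hne)) haR hbR
      (fixSet_smul hnX hbR) hb.symm (fun e => hb (smul_left_cancel n (e.symm.trans hna.symm))) hnb.symm
  push Not at hfpf
  obtain ⟨w, hwX, hwi, r, hr, hwr⟩ := hfpf
  have hcentre : ∀ {c : Ω}, c ∈ fixSet Ω R → ∃ i ∈ X, IsInv i ∧ i • c = c := by
    intro c hc
    rcases eq_or_ne r c with rfl | hne
    · exact ⟨w, hwX, hwi, hwr⟩
    obtain ⟨s, hsX, hsi, hsr⟩ := hswap hr hc hne
    exact ⟨s * w * s⁻¹, mul_mem (mul_mem hsX hwX) (inv_mem hsX), hwi.conj s, hsr ▸ smul_conj hwr⟩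
  obtain ⟨z₁, hz₁X, hz₁, hz₁a⟩ := hcentre haR
  by_cases hfour : ∃ e f, e ∈ X ∧ f ∈ X ∧ IsInv e ∧ IsInv f ∧ e ≠ f ∧ e * f = f * e
  · obtain ⟨e, f, heX, hfX, he, hf, hne, hcom⟩ := hfour
    obtain ⟨o, ho⟩ := exists_fix hC.act he
    have hoR := four_fix hC.act hRodd he hf hne hcom heX hfX ho
    obtain ⟨i, hiX, hi, hib⟩ := hcentre hbR
    obtain ⟨s, hsX, hso⟩ : ∃ s ∈ X, s • o = a := by
      rcases eq_or_ne o a with rfl | hoa
      · exact ⟨1, one_mem X, one_smul G o⟩
      · obtain ⟨s, hsX, -, hso⟩ := hswap hoR haR hoa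
        exact ⟨s, hsX, hso⟩
    refine hnb (core_fix hC ih hXtop (mul_mem (mul_mem hsX heX) (inv_mem hsX))
      (mul_mem (mul_mem hsX hfX) (inv_mem hsX)) (he.conj s) (hf.conj s)
      (fun h => hne (mul_left_cancel (mul_right_cancel h))) ?_ (hso ▸ smul_conj ho) hnX hnN hiX hi hib).1
    calc s * e * s⁻¹ * (s * f * s⁻¹) = s * (e * f) * s⁻¹ := by group
      _ = s * (f * e) * s⁻¹ := by rw [hcom]
      _ = s * f * s⁻¹ * (s * e * s⁻¹) := by group
  push Not at hfour
  -- every element of the two-point stabiliser normalising `R` lies in `M`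
  have hkey : ∀ d ∈ (two a b : Subgroup G), d ∈ X → d ∈ M a := by
    intro d hd hdX
    have hda := (mem_two.mp hd).1
    refine mem_M_of_comm hC hz₁ hz₁a hda ?_
    by_contra heven
    rw [Nat.not_odd_iff_even] at heven
    set z₂ := d⁻¹ * z₁ * d with hz₂
    have hz₂i : IsInv z₂ := by simpa using hz₁.conj d⁻¹
    have hz₂X : z₂ ∈ X := mul_mem (mul_mem (inv_mem hdX) hz₁X) hdX
    obtain ⟨h1, h2⟩ := CfsgLib.Involutions.central_half hz₂i.2 hz₁.2 heven
    obtain ⟨hw2, hw1⟩ := CfsgLib.Involutions.orderOf_eq_two_iff'.mp (CfsgLib.Involutions.orderOf_half heven)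
    have hwn := pow_mem (mul_mem hz₂X hz₁X) (orderOf (z₂ * z₁) / 2)
    have e1 : (z₂ * z₁) ^ (orderOf (z₂ * z₁) / 2) = z₂ :=
      by_contra fun h => hfour _ _ hwn hz₂X ⟨hw1, hw2⟩ hz₂i h h1.eq
    rw [e1] at h2
    have e2 : z₂ = z₁ := by_contra fun h => hfour _ _ hz₂X hz₁X hz₂i hz₁ h h2.eq
    rw [e2, hz₁.2, orderOf_one] at heven
    exact absurd heven (by decide)
  obtain ⟨h, hh, hhM⟩ := exists_not_mem_M hC a
  obtain ⟨d, hd, hdh⟩ := two_decomp hC hb hh
  refine hhM ?_
  rw [← mul_inv_cancel_left d h]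
  refine mul_mem ?_ hdh
  set E : Subgroup G := two a b ⊓ N a
  have hRE : MaxP p E R := hR.of_le inf_le_left (le_inf hR.le hRN)
  have hRd : MaxP p E (R.map (MulAut.conj d).toMonoidHom) := by
    refine maxP_of_card (hR.isPGroup.map _) ?_ ?_
    · rintro _ ⟨y, hy, rfl⟩
      exact ⟨(two a b).mul_mem ((two a b).mul_mem hd (hR.le hy)) ((two a b).inv_mem hd), conj_N hC (mem_two.mp hd).1 (hRN hy)⟩
    · rw [Subgroup.card_map_of_injective (MulAut.conj d).injective, hRE.card]
  obtain ⟨e, he, heR⟩ := hRd.conj hRE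
  have hnorm : e * d ∈ X := mem_normalizer_of_conj fun y hy => by
    have := (heR _).mp ⟨y, hy, rfl⟩
    simpa [mul_assoc] using this
  rw [show d = e⁻¹ * (e * d) by group]
  exact mul_mem (inv_mem (hC.N_le a he.2)) (hkey _ (mul_mem he.1 hd) hnorm)

/-- The involutions of the stabiliser centralise the core. -/
theorem core_commute (ih : Below.{u, v} (Nat.card G)) {z : G} (hz : IsInv z) (hza : z • a = a) {n : G}
    (hn : n ∈ N a) : n * z = z * n := by
  haveI : Group.IsSolvable (N a) := CfsgLib.Bender.solvable_of_odd (hC.oddN a)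
  set F := fittingSubgroup (N a)
  have hFz : ∀ f : N a, f ∈ F → (f : G) * z = z * (f : G) := by
    intro f hf
    have hle : F ≤ (cz z).subgroupOf (N a) := by
      show fittingSubgroup (N a) ≤ _
      rw [CfsgLib.fittingSubgroup_eq_iSup_pCore]
      refine iSup_le fun p => fun y hy => ?_
      haveI : Fact (p : ℕ).Prime := ⟨p.2⟩
      have hn' : ∀ h : G, h • a = a → ∀ w ∈ (pCore (p : ℕ) (N a)).map (N a).subtype,
          h * w * h⁻¹ ∈ (pCore (p : ℕ) (N a)).map (N a).subtype := fun h hh w hw => by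
        have h1 := (CfsgLib.le_normalizer_map_characteristic (A := Subgroup.zpowers h)
          (Subgroup.zpowers_le.mpr (mem_normalizer_of_conj fun k hk => conj_N hC hh hk))
          (pCore (p : ℕ) (N a))).1 (Subgroup.mem_zpowers h)
        exact conj_mem_of_normalizer h1 hw
      exact mem_cz.mpr (pgroup_commute hC ih ((isPGroup_pCore (p : ℕ)).map _) (Subgroup.map_subtype_le _) hn'
        hz hza ⟨y, hy, rfl⟩)
    exact mem_cz.mp (hle hf)
  have hzn : ∀ k ∈ N a, z * k * z ∈ N a := fun k hk => by simpa [hz.inv] using conj_N hC hza hk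
  set w : G := n⁻¹ * (z * n * z) with hw
  have hwN : w ∈ N a := mul_mem (inv_mem hn) (hzn n hn)
  have hcent : (⟨w, hwN⟩ : N a) ∈ Subgroup.centralizer (F : Set (N a)) := by
    intro f hf
    refine Subtype.ext ?_
    show (f : G) * w = w * (f : G)
    have h1 : (⟨n, hn⟩ * f * ⟨n, hn⟩⁻¹ : N a) ∈ F := (inferInstance : F.Normal).conj_mem f hf ⟨n, hn⟩
    have h2 : n * (f : G) * n⁻¹ * z = z * (n * (f : G) * n⁻¹) := hFz _ h1
    have h3 := hFz f hf
    rw [hw]
    calc (f : G) * (n⁻¹ * (z * n * z)) = n⁻¹ * ((n * (f : G) * n⁻¹) * z) * n * z := by group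
      _ = n⁻¹ * z * n * ((f : G) * z) := by rw [h2]; group
      _ = n⁻¹ * (z * n * z) * (f : G) := by rw [h3]; group
  have h3 := hFz _ (CfsgLib.centralizer_fitting_le hcent)
  have h4 : z * w * z = w⁻¹ := by
    rw [hw, mul_inv_rev, mul_inv_rev, mul_inv_rev, inv_inv, hz.inv]
    calc z * (n⁻¹ * (z * n * z)) * z = z * n⁻¹ * z * n * (z * z) := by group
      _ = _ := by rw [hz.2]; group
  have h5 : w⁻¹ = w := by rw [← h4]; simp only at h3; rw [← h3, mul_assoc, hz.2, mul_one]
  have h6 := eq_one_of_inv_eq h5 (odd_orderOf (hC.oddN a) hwN)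
  rw [hw, inv_mul_eq_one] at h6
  calc n * z = z * n * z * z := by rw [← h6]
    _ = z * n := by rw [mul_assoc, hz.2, mul_one]

end CfsgLib.Bender.OddCore
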