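import Cfsg.Agent.Lib.Bender.OddCore.Kernel
import Cfsg.Agent.Lib.Bender.TwoClosed.Main
import Cfsg.Agent.Lib.SuzukiRankOne.Main

/-!
The odd core is trivial: the point stabiliser is 2-closed and the group is one of the rank one groups.

Blueprint: `blueprint/bender/E_OddCore.md`.
-/

set_option autoImplicit false
set_option linter.unusedSectionVars false
set_option linter.style.haveILetI false

namespace CfsgLib.Bender.OddCore

open MulAction Cfsg CfsgLib.SuzukiRankOne
open CfsgLib.Bender.TwoClosed (IsInv IsInv.inv IsInv.conj IsInv.smul_twice two InvAt Swap smul_conj mem_two mem_two_comm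
  exists_inv_of_even odd_card_of_forall odd_orderOf eq_one_of_two_odd eq_one_of_inv_eq MaxP exists_maxP maxP_of_card
  mem_normalizer_of_conj conj_mem_of_normalizer exists_mem_normalizer fixSet fixSet_smul mem_of_sq_mem)

universe u v

variable {G : Type u} {Ω : Type v} [Group G] [Finite G] [MulAction G Ω] [FaithfulSMul G Ω]

/-- A normal subgroup of a point stabiliser regular on the other points gives a rank one set-up. -/
theorem setup (hA : Act G Ω) {a b : Ω} (hb : b ≠ a) {u : G} (hu : IsInv u) (hua : u • a = b) {Q : Subgroup G}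
    (hQ : Q ≤ stabilizer G a) {i : G} (hi : IsInv i) (hiQ : i ∈ Q)
    (hn : ∀ h : G, h • a = a → ∀ x ∈ Q, h * x * h⁻¹ ∈ Q) (hreg : ∀ x ∈ Q, x • b = b → x = 1)
    (htr : ∀ c : Ω, c ≠ a → ∃ x ∈ Q, x • b = c) : IsRankOneSetup G Ω a u Q := by
  have hta : stabilizer G (u • a) = stabilizer G b := by rw [hua]
  refine ⟨?_, hu.2, hu.1, fun h => hb (hua ▸ mem_stabilizer_iff.mp h), hQ,
    fun h hh x hx => hn h (mem_stabilizer_iff.mp hh) x hx, ?_, ?_, ?_, ?_⟩
  · rw [is_two_pretransitive_iff]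
    haveI := hA.trans
    have key : ∀ p q : Ω, p ≠ q → ∃ g : G, g • a = p ∧ g • b = q := by
      intro p q hpq
      obtain ⟨g, rfl⟩ := exists_smul_eq G a p
      obtain ⟨x, hx, hxb⟩ := htr (g⁻¹ • q) (fun e => hpq (inv_smul_eq_iff.mp e).symm)
      exact ⟨g * x, by rw [mul_smul, mem_stabilizer_iff.mp (hQ hx)], by rw [mul_smul, hxb, smul_inv_smul]⟩
    intro p q p' q' hpq hpq'
    obtain ⟨g, h1, h2⟩ := key p q hpq
    obtain ⟨k, h3, h4⟩ := key p' q' hpq'
    exact ⟨k * g⁻¹, by rw [mul_smul, ← h1, inv_smul_smul, h3], by rw [mul_smul, ← h2, inv_smul_smul, h4]⟩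
  · rw [hta, eq_bot_iff]
    exact fun x hx => Subgroup.mem_bot.mpr (hreg x hx.1 (mem_stabilizer_iff.mp hx.2))
  · rw [hta]
    refine le_antisymm (sup_le hQ inf_le_left) fun h hh => ?_
    have hha := mem_stabilizer_iff.mp hh
    obtain ⟨x, hx, hxb⟩ := htr (h • b) fun e => hb (smul_left_cancel h (e.trans hha.symm))
    rw [← mul_inv_cancel_left x h]
    refine Subgroup.mul_mem_sup hx (mem_two.mpr ⟨?_, ?_⟩)
    · rw [mul_smul, hha, inv_smul_eq_iff, mem_stabilizer_iff.mp (hQ hx)]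
    · rw [mul_smul, inv_smul_eq_iff, hxb]
  · rw [even_iff_two_dvd, ← orderOf_eq_prime (show i ^ 2 = 1 by rw [pow_two, hi.2]) hi.1]
    exact Subgroup.orderOf_dvd_natCard Q hiQ
  · rw [hta]
    exact odd_two hA hb.symm

variable {N M : Ω → Subgroup G}

theorem core_step (hC : Core G Ω N M) (ih : Below.{u, v} (Nat.card G)) (a : Ω) : N a = ⊥ := by
  haveI : Fact (Nat.Prime 2) := ⟨Nat.prime_two⟩
  obtain ⟨b, hb⟩ := exists_ne (a := a) hC.act
  by_contra h0
  obtain ⟨K, hKN, hKH, hKb, hNK, hfr⟩ := exists_kernel_data hC ih hb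
    fun h => h0 (core_bot_of_fix hC ih hb h)
  set E : Subgroup G := N a ⊓ stabilizer G b
  set A : Subgroup G := M a ⊓ Subgroup.normalizer (E : Set G)
  obtain ⟨z, hz, hza⟩ := exists_inv_at hC.act a
  have hzA : z ∈ A := ⟨inv_mem_M hC hz hza, mem_normalizer_of_conj fun x hx => by
    rw [← core_commute hC ih hz hza hx.1, mul_inv_cancel_right]
    exact hx⟩
  obtain ⟨S, hzS, hS⟩ := exists_maxP (p := 2) (X := Subgroup.zpowers z)
    (IsPGroup.iff_card.mpr ⟨1, by
      rw [Nat.card_zpowers, pow_one]; exact CfsgLib.Involutions.orderOf_eq_two_iff'.mpr ⟨hz.2, hz.1⟩⟩)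
    (Subgroup.zpowers_le.mpr hzA)
  have hSE : ∀ s ∈ S, ∀ x ∈ E, s * x = x * s := fun s hs x hx => by
    obtain ⟨k, hk⟩ := hS.isPGroup ⟨s, hs⟩
    exact two_commute hC ih hb (hS.le hs) (congrArg Subtype.val hk) hx
  set Q : Subgroup G := K ⊔ S
  have hKle : K ≤ M a := hKN.trans (hC.N_le a)
  have hQM : Q ≤ M a := sup_le hKle (hS.le.trans inf_le_left)
  have hEQ : ∀ e ∈ E, e ∈ Subgroup.normalizer (Q : Set G) := fun e he => mem_normalizer_of_conj fun x hx => by
    have hle : Q ≤ Q.comap (MulAut.conj e).toMonoidHom := by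
      refine sup_le (fun k hk => ?_) fun s hs => ?_
      · exact Subgroup.mem_sup_left (hKH e (smul_of_N hC he.1) k hk)
      · show e * s * e⁻¹ ∈ Q
        rw [← hSE s hs e he, mul_inv_cancel_right]
        exact Subgroup.mem_sup_right hs
    exact hle hx
  have hMQE : M a ≤ Q ⊔ E := by
    intro m hm
    obtain ⟨n, hn, hnm⟩ := hfr m hm
    rw [← mul_inv_cancel_left n m]
    have h1 : N a ≤ Q ⊔ E := hNK.trans (sup_le_sup_right le_sup_left E)
    refine mul_mem (h1 hn) ?_
    exact (le_core_sup hC inf_le_left hS).trans (sup_le (inf_le_left.trans h1) (le_sup_right.trans le_sup_left))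
      (⟨(M a).mul_mem ((M a).inv_mem (hC.N_le a hn)) hm, hnm⟩ : n⁻¹ * m ∈ A)
  have hMnorm : M a ≤ Subgroup.normalizer (Q : Set G) :=
    hMQE.trans (sup_le Subgroup.le_normalizer hEQ)
  have hdQ : ∀ d ∈ (two a b : Subgroup G), d ∈ Subgroup.normalizer (Q : Set G) := fun d hd => by
    obtain ⟨hda, hdb⟩ := mem_two.mp hd
    have hdi : d⁻¹ • a = a := inv_smul_eq_iff.mpr hda.symm
    have hdib : d⁻¹ • b = b := inv_smul_eq_iff.mpr hdb.symm
    have hdE : d ∈ Subgroup.normalizer (E : Set G) := mem_normalizer_of_conj fun x hx =>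
      ⟨conj_N hC hda hx.1, mem_stabilizer_iff.mpr (by
        rw [mul_smul, mul_smul, hdib, mem_stabilizer_iff.mp hx.2, hdb])⟩
    have hSd : MaxP 2 A (S.map (MulAut.conj d).toMonoidHom) := by
      refine maxP_of_card (hS.isPGroup.map _) ?_ ?_
      · rintro _ ⟨x, hx, rfl⟩
        exact ⟨conj_M hC hda (hS.le hx).1, (Subgroup.normalizer (E : Set G)).mul_mem
          ((Subgroup.normalizer (E : Set G)).mul_mem hdE (hS.le hx).2) ((Subgroup.normalizer (E : Set G)).inv_mem hdE)⟩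
      · rw [Subgroup.card_map_of_injective (MulAut.conj d).injective, hS.card]
    obtain ⟨g, hg, hgS⟩ := hSd.conj hS
    refine mem_normalizer_of_conj fun x hx => ?_
    have hle : Q ≤ Q.comap (MulAut.conj d).toMonoidHom := by
      refine sup_le (fun k hk => Subgroup.mem_sup_left (hKH d hda k hk)) fun s hs => ?_
      have h1 : g * (d * s * d⁻¹) * g⁻¹ ∈ S := (hgS _).mp ⟨s, hs, rfl⟩
      have h2 := conj_mem_of_normalizer (inv_mem (hMnorm hg.1))
        (show g * (d * s * d⁻¹) * g⁻¹ ∈ Q from Subgroup.mem_sup_right h1)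
      show d * s * d⁻¹ ∈ Q
      simpa [mul_assoc] using h2
    exact hle hx
  have hQH : ∀ h : G, h • a = a → ∀ x ∈ Q, h * x * h⁻¹ ∈ Q := fun h hh x hx => by
    obtain ⟨d, hd, hdh⟩ := two_decomp hC hb hh
    have := mul_mem (hdQ d hd) (hMnorm hdh)
    rw [mul_inv_cancel_left] at this
    exact conj_mem_of_normalizer this hx
  have hreg : ∀ x ∈ Q, x • b = b → x = 1 := by
    intro x hx hxb
    have hn : S ≤ Subgroup.normalizer (K : Set G) := fun s hs =>
      mem_normalizer_of_conj fun k hk => hKH s (smul_of_M hC (hS.le hs).1) k hk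
    have hx' : x ∈ (↑(K ⊔ S) : Set G) := hx
    rw [Subgroup.coe_mul_of_right_le_normalizer_left K S hn] at hx'
    obtain ⟨k, hk, s, hs, rfl⟩ := Set.mem_mul.mp hx'
    have hMx : k * s ∈ M a := hQM hx
    have hxN : k * s ∈ N a := mem_N_of_odd hC hMx
      (odd_orderOf (odd_two hC.act hb.symm) (mem_two.mpr ⟨smul_of_M hC hMx, hxb⟩))
    have hsN : s ∈ N a := by
      rw [← inv_mul_cancel_left k s]
      exact mul_mem (inv_mem (hKN hk)) hxN
    have hs1 : s = 1 := by
      obtain ⟨j, hj⟩ := IsPGroup.iff_orderOf.mp hS.isPGroup ⟨s, hs⟩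
      rw [Subgroup.orderOf_mk] at hj
      have := odd_orderOf (hC.oddN a) hsN
      rw [hj] at this
      rcases j.eq_zero_or_pos with rfl | hpos
      · exact orderOf_eq_one_iff.mp (by rw [hj, pow_zero])
      · exact absurd this (Nat.not_odd_iff_even.mpr (even_two.pow_of_ne_zero hpos.ne'))
    rw [hs1, mul_one] at hxb ⊢
    exact Subgroup.mem_bot.mp (hKb ▸ Subgroup.mem_inf.mpr ⟨hk, mem_stabilizer_iff.mpr hxb⟩)
  have htr : ∀ c : Ω, c ≠ a → ∃ x ∈ Q, x • b = c := by
    intro c hc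
    obtain ⟨h, hha, hhb⟩ := two_transitive hC hb hc
    obtain ⟨d, hd, hdh⟩ := two_decomp hC hb hha
    obtain ⟨hda, hdb⟩ := mem_two.mp hd
    have h1 := hMQE (conj_M hC hda hdh)
    rw [mul_inv_cancel_left, ← SetLike.mem_coe, Subgroup.coe_mul_of_right_le_normalizer_left Q E hEQ,
      Set.mem_mul] at h1
    obtain ⟨q, hq, e, he, hqe⟩ := h1
    refine ⟨q, hq, ?_⟩
    calc q • b = (q * e) • b := by rw [mul_smul, mem_stabilizer_iff.mp he.2]
      _ = (h * d⁻¹) • b := by rw [hqe]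
      _ = c := by rw [mul_smul, inv_smul_eq_iff.mpr hdb.symm, hhb]
  obtain ⟨⟨u, hu, hua⟩⟩ := exists_swap hC.act hb.symm
  have hset : IsRankOneSetup G Ω a u Q :=
    setup hC.act hb hu hua (hQM.trans (hC.M_le a)) hz
      (Subgroup.mem_sup_right (hzS (Subgroup.mem_zpowers z))) hQH hreg htr
  have hQ2 : IsPGroup 2 Q := (CfsgLib.SuzukiRankOne.concl hset hC.act.four).1
  have hK0 : K = ⊥ := Subgroup.card_eq_one.mp (by
    obtain ⟨j, hj⟩ := IsPGroup.iff_card.mp (hQ2.to_le (le_sup_left : K ≤ Q))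
    rcases j.eq_zero_or_pos with rfl | hpos
    · rw [hj, pow_zero]
    · exact absurd ((hC.oddN a).of_dvd_nat (Subgroup.card_dvd_of_le hKN))
        (Nat.not_odd_iff_even.mpr (hj ▸ even_two.pow_of_ne_zero hpos.ne')))
  rw [hK0, bot_sup_eq] at hNK
  exact h0 (core_bot_of_fix hC ih hb (hNK.trans inf_le_right))

/-- The odd core is trivial. -/
theorem core_eq_bot (hC : Core G Ω N M) : ∀ c : Ω, N c = ⊥ := by
  have key : ∀ n : ℕ, ∀ (G : Type u) (Ω : Type v) [Group G] [Finite G] [MulAction G Ω] [FaithfulSMul G Ω]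
      (N M : Ω → Subgroup G), Core G Ω N M → Nat.card G = n → ∀ c, N c = ⊥ := by
    intro n
    induction n using Nat.strong_induction_on with
    | _ n ih =>
      intro G Ω _ _ _ _ N M hC hn c
      exact core_step hC (fun G' Ω' _ _ _ _ N' M' hC' hlt => ih _ (hn ▸ hlt) G' Ω' N' M' hC' rfl) c
  exact key _ G Ω N M hC rfl

/-- The point stabiliser is 2-closed. -/
theorem closed (hC : Core G Ω N M) (a : Ω) : TwoClosed.Closed G Ω a (M a) := by
  haveI : Fact (Nat.Prime 2) := ⟨Nat.prime_two⟩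
  obtain ⟨b, hb⟩ := exists_ne (a := a) hC.act
  refine ⟨hC.act.trans, hC.act.one_fix, hC.act.four, hC.M_le a, fun h hh x hx => conj_M hC hh hx, fun x => ?_,
    fun x hxa ⟨k, hk⟩ => ?_⟩
  · obtain ⟨k, hk⟩ := hC.quot a x x.2
    exact ⟨k, Subtype.ext (Subgroup.mem_bot.mp (core_eq_bot hC a ▸ hk))⟩
  · haveI : ((M a).subgroupOf (stabilizer G a)).Normal :=
      ⟨fun m hm g => conj_M hC (mem_stabilizer_iff.mp g.2) hm⟩
    have h1 : x ^ (M a).relIndex (stabilizer G a) ∈ M a :=
      Subgroup.pow_index_mem ((M a).subgroupOf (stabilizer G a)) ⟨x, mem_stabilizer_iff.mpr hxa⟩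
    have hodd : Odd ((M a).relIndex (stabilizer G a)) := by
      rw [← relIndex_two hC hb]
      exact (odd_two hC.act hb.symm).of_dvd_nat (Subgroup.relIndex_dvd_card _ _)
    obtain ⟨e, he⟩ := exists_pow_eq_self_of_coprime (n := (M a).relIndex (stabilizer G a)) (x := x)
      (((Nat.coprime_two_left.mpr hodd).pow_left k).coprime_dvd_left (orderOf_dvd_of_pow_eq_one hk)).symm
    exact he ▸ pow_mem h1 e

/-- The groups with such an action. -/
theorem hasTarget (hC : Core G Ω N M) (a : Ω) : HasTarget G := by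
  obtain ⟨t, ht⟩ := TwoClosed.exists_setup
    (fun G Ω _ _ _ _ a t Q hS h2 => CfsgLib.SuzukiRankOne.concl hS h2) (closed hC a)
  exact (CfsgLib.SuzukiRankOne.concl ht hC.act.four).2.2

end CfsgLib.Bender.OddCore
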