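import Cfsg.Agent.Lib.Bender.OddCore.Pairs

/-!
A subgroup of odd order whose fixed points are moved by all involutions of its normaliser fixes at most two points,
provided any two fixed points are exchanged in the normaliser or are the fixed points of one of its Sylow subgroups.

Blueprint: `blueprint/bender/E_OddCore.md`, steps A and B.  The argument is that of the 2-closed case.
-/

set_option autoImplicit false
set_option linter.unusedSectionVars false
set_option linter.style.haveILetI false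

namespace CfsgLib.Bender.OddCore

open MulAction Cfsg CfsgLib.SuzukiRankOne
open CfsgLib.Bender.TwoClosed (IsInv IsInv.inv IsInv.conj IsInv.smul_twice two InvAt Swap smul_conj mem_two mem_two_comm
  exists_inv_of_even odd_card_of_forall odd_orderOf eq_one_of_two_odd eq_one_of_inv_eq MaxP exists_maxP maxP_of_card
  exists_invariant_maxP mem_normalizer_of_conj conj_mem_of_normalizer exists_mem_normalizer fixSet fixSet_smul
  mem_of_sq_mem odd_orderOf_of_pGroup)

universe u v

variable {G : Type u} {Ω : Type v} [Group G] [Finite G] [MulAction G Ω] (hA : Act G Ω) {X : Subgroup G}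
  (hXodd : Odd (Nat.card X))
include hA hXodd

/-- A commuting pair of distinct involutions of the normaliser fixes a fixed point. -/
theorem four_fix {e f : G} (he : IsInv e) (hf : IsInv f) (hne : e ≠ f) (hcom : e * f = f * e)
    (hen : e ∈ Subgroup.normalizer (X : Set G)) (hfn : f ∈ Subgroup.normalizer (X : Set G))
    {w : Ω} (hw : e • w = w) : w ∈ fixSet Ω X := by
  have hfw : f • w = w := commute_fix hA he hw hcom.symm
  let A : Subgroup G :=
    { carrier := {x | (x * e = e * x ∧ x * x = 1) ∧ (x = 1 ∨ x = e ∨ x = f ∨ x = e * f)}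
      one_mem' := ⟨⟨by rw [one_mul, mul_one], mul_one 1⟩, Or.inl rfl⟩
      mul_mem' := by
        rintro x y ⟨⟨hxe, hx2⟩, hx⟩ ⟨⟨hye, hy2⟩, hy⟩
        have hxy : x * y = y * x := by
          rcases hx with hx | hx | hx | hx <;> rcases hy with hy | hy | hy | hy <;> rw [hx, hy] <;>
            first
              | rw [one_mul, mul_one]
              | rw [mul_one, one_mul]
              | rfl
              | exact hcom
              | exact hcom.symm
              | exact (Commute.mul_right (Commute.refl e) hcom).eq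
              | exact (Commute.mul_right (Commute.refl e) hcom).eq.symm
              | exact (Commute.mul_right (show Commute f e from hcom.symm) (Commute.refl f)).eq
              | exact (Commute.mul_right (show Commute f e from hcom.symm) (Commute.refl f)).eq.symm
        refine ⟨⟨by rw [mul_assoc, hye, ← mul_assoc, hxe, mul_assoc], ?_⟩, ?_⟩
        · calc x * y * (x * y) = x * (y * x) * y := by group
            _ = x * (x * y) * y := by rw [hxy]
            _ = 1 := by rw [← mul_assoc, hx2, one_mul, hy2]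
        · have h1 : f * (e * f) = e := by rw [← mul_assoc, ← hcom, mul_assoc, hf.2, mul_one]
          have h2 : e * (e * f) = f := by rw [← mul_assoc, he.2, one_mul]
          have h3 : e * f * e = f := by rw [hcom, mul_assoc, he.2, mul_one]
          have h4 : e * f * f = e := by rw [mul_assoc, hf.2, mul_one]
          have h5 : e * f * (e * f) = 1 := by rw [mul_assoc, h1, he.2]
          rcases hx with hx | hx | hx | hx <;> rcases hy with hy | hy | hy | hy <;> rw [hx, hy] <;>
            simp [he.2, hf.2, h1, h2, h3, h4, h5, hcom.symm]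
      inv_mem' := by
        rintro x ⟨⟨hxe, hx2⟩, hx⟩
        rw [inv_eq_of_mul_eq_one_right hx2]
        exact ⟨⟨hxe, hx2⟩, hx⟩ }
  have hinv : ∀ x ∈ A, x ≠ 1 → IsInv x ∧ x • w = w ∧ x ∈ Subgroup.normalizer (X : Set G) := by
    rintro x ⟨⟨-, hx2⟩, hx⟩ h1
    refine ⟨⟨h1, hx2⟩, ?_⟩
    rcases hx with rfl | rfl | rfl | rfl
    · exact absurd rfl h1
    · exact ⟨hw, hen⟩
    · exact ⟨hfw, hfn⟩
    · exact ⟨by rw [mul_smul, hfw, hw], mul_mem hen hfn⟩
  have hnorm : A ≤ Subgroup.normalizer (X : Set G) := fun x hx => by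
    by_cases h1 : x = 1
    · exact h1 ▸ one_mem _
    · exact (hinv x hx h1).2.2
  haveI : Fact (Nat.Prime 2) := ⟨Nat.prime_two⟩
  haveI : IsMulCommutative A := ⟨⟨fun x y => Subtype.ext (by
    have h1 : ((x : G) * y) * ((x : G) * y) = 1 := (mul_mem x.2 y.2 : (x : G) * y ∈ A).1.2
    have h2 : (x : G)⁻¹ = x := inv_eq_of_mul_eq_one_right x.2.1.2
    have h3 : (y : G)⁻¹ = y := inv_eq_of_mul_eq_one_right y.2.1.2
    show (x : G) * y = (y : G) * x
    rw [← inv_eq_of_mul_eq_one_right h1, mul_inv_rev, h2, h3])⟩⟩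
  have hpg : IsPGroup 2 A := fun x => ⟨1, by rw [pow_one, pow_two]; exact Subtype.ext x.2.1.2⟩
  have heA : e ∈ A := ⟨⟨rfl, he.2⟩, Or.inr (Or.inl rfl)⟩
  have hfA : f ∈ A := ⟨⟨hcom.symm, hf.2⟩, Or.inr (Or.inr (Or.inl rfl))⟩
  have hnc : ¬ IsCyclic A := fun hcyc => by
    obtain ⟨g, hg⟩ := hcyc.exists_generator
    have key : ∀ x : A, x ≠ 1 → x = g := fun x hx => by
      obtain ⟨n, rfl⟩ := Subgroup.mem_zpowers_iff.mp (hg x)
      obtain ⟨k, rfl | rfl⟩ := Int.even_or_odd' n
      · exact absurd (by rw [zpow_mul, zpow_two, show g * g = 1 from Subtype.ext g.2.1.2, one_zpow]) hx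
      · rw [zpow_add_one, zpow_mul, zpow_two, show g * g = 1 from Subtype.ext g.2.1.2, one_zpow, one_mul]
    exact hne (congrArg Subtype.val ((key ⟨e, heA⟩ fun h => he.1 (congrArg Subtype.val h)).trans
      (key ⟨f, hfA⟩ fun h => hf.1 (congrArg Subtype.val h)).symm))
  have hcop : (Nat.card A).Coprime (Nat.card X) := by
    obtain ⟨k, hk⟩ := IsPGroup.iff_card.mp hpg
    exact hk ▸ (Nat.coprime_two_left.mpr hXodd).pow_left k
  have hle : X ≤ stabilizer G w := by
    rw [← coprime_generated_by_centralizers hnc hnorm hcop]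
    refine iSup₂_le fun x hx => fun y hy => mem_stabilizer_iff.mpr ?_
    obtain ⟨h1, h2, -⟩ := hinv x hx.1 hx.2
    exact commute_fix hA h1 h2 (Subgroup.mem_centralizer_singleton_iff.mp hy.2)
  exact fun x hx => mem_stabilizer_iff.mp (hle hx)

variable (hfpf : ∀ x ∈ Subgroup.normalizer (X : Set G), IsInv x → ∀ r ∈ fixSet Ω X, x • r ≠ r)
include hfpf

theorem no_four {e f : G} (he : IsInv e) (hf : IsInv f) (hne : e ≠ f) (hcom : e * f = f * e)
    (hen : e ∈ Subgroup.normalizer (X : Set G)) (hfn : f ∈ Subgroup.normalizer (X : Set G)) : False := by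
  obtain ⟨w, hw⟩ := exists_fix hA he
  exact hfpf _ hen he w (four_fix hA hXodd he hf hne hcom hen hfn hw) hw

/-- Two involutions of the normaliser with an involution commuting with both coincide. -/
theorem eq_of_even {x z : G} (hx : IsInv x) (hz : IsInv z)
    (hxn : x ∈ Subgroup.normalizer (X : Set G)) (hzn : z ∈ Subgroup.normalizer (X : Set G))
    (he : Even (orderOf (z * x))) : x = z := by
  obtain ⟨h1, h2⟩ := CfsgLib.Involutions.central_half hz.2 hx.2 he
  obtain ⟨hw2, hw1⟩ := CfsgLib.Involutions.orderOf_eq_two_iff'.mp (CfsgLib.Involutions.orderOf_half he)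
  have hwn := pow_mem (mul_mem hzn hxn) (orderOf (z * x) / 2)
  have e1 : (z * x) ^ (orderOf (z * x) / 2) = z :=
    by_contra fun h => no_four hA hXodd hfpf ⟨hw1, hw2⟩ hz h h1.eq hwn hzn
  rw [e1] at h2
  exact by_contra fun h => no_four hA hXodd hfpf hz hx (Ne.symm h) h2.eq hzn hxn

/-- The main lemma. -/
theorem fix_le_two {p : ℕ} [Fact p.Prime] (hp2 : p ≠ 2)
    (hpair : ∀ c ∈ fixSet Ω X, ∀ d ∈ fixSet Ω X, c ≠ d →
      (∃ x ∈ Subgroup.normalizer (X : Set G), IsInv x ∧ x • c = d) ∨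
        ∃ P, MaxP p (Subgroup.normalizer (X : Set G)) P ∧ c ∈ fixSet Ω P ∧ d ∈ fixSet Ω P ∧
          ∀ e ∈ fixSet Ω P, e ∈ fixSet Ω X → e = c ∨ e = d)
    {c d e : Ω} (hc : c ∈ fixSet Ω X) (hd : d ∈ fixSet Ω X) (he : e ∈ fixSet Ω X) (hcd : c ≠ d) (hce : c ≠ e)
    (hde : d ≠ e) : False := by
  set N := Subgroup.normalizer (X : Set G) with hN
  by_cases hinv : ∃ z ∈ N, IsInv z
  swap
  · push Not at hinv
    have hW : ∀ {c' d' : Ω}, c' ∈ fixSet Ω X → d' ∈ fixSet Ω X → c' ≠ d' →
        ∃ P, MaxP p N P ∧ c' ∈ fixSet Ω P ∧ d' ∈ fixSet Ω P ∧ ∀ e ∈ fixSet Ω P, e ∈ fixSet Ω X → e = c' ∨ e = d' := by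
      intro c' d' hc' hd' hne
      rcases hpair c' hc' d' hd' hne with ⟨x, hx, hxi, -⟩ | ⟨P, hP, h1, h2, h3⟩
      · exact absurd hxi (hinv x hx)
      · exact ⟨P, hP, h1, h2, h3⟩
    have turn : ∀ {r q q' : Ω}, r ∈ fixSet Ω X → q ∈ fixSet Ω X → q' ∈ fixSet Ω X → r ≠ q → r ≠ q' →
        ∃ g ∈ N, g • r = r ∧ g • q = q' := by
      intro r q q' hr hq hq' hne hne'
      obtain ⟨P, hP, hrP, hqP, -⟩ := hW hr hq hne
      obtain ⟨P', hP', hrP', -, honly⟩ := hW hr hq' hne'
      have hle : ∀ {P : Subgroup G}, MaxP p N P → r ∈ fixSet Ω P → MaxP p (N ⊓ stabilizer G r) P :=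
        fun hP hrP => hP.of_le inf_le_left (le_inf hP.le fun x hx => mem_stabilizer_iff.mpr (hrP x hx))
      obtain ⟨g, hg, hgP⟩ := (hle hP hrP).conj (hle hP' hrP')
      have hgr := mem_stabilizer_iff.mp hg.2
      have hfix : g • q ∈ fixSet Ω P' := fun x hx => by
        have h := hqP _ ((hgP (g⁻¹ * x * g)).mpr (by simpa [mul_assoc] using hx))
        rwa [mul_smul, mul_smul, inv_smul_eq_iff] at h
      rcases honly _ hfix (fixSet_smul hg.1 hq) with h | h
      · exact absurd (smul_left_cancel g (h.trans hgr.symm)).symm hne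
      · exact ⟨g, hg.1, hgr, h⟩
    obtain ⟨g1, h1, h1c, h1d⟩ := turn hc hd he hcd hce
    obtain ⟨g2, h2, h2e, h2c⟩ := turn he hc hd hce.symm hde.symm
    obtain ⟨g3, h3, h3d, h3e⟩ := turn hd he hc hde hcd.symm
    have hg : g3 * g2 * g1 ∈ N := mul_mem (mul_mem h3 h2) h1
    have hgc : (g3 * g2 * g1) • c = d := by rw [mul_smul, mul_smul, h1c, h2c, h3d]
    have hgd : (g3 * g2 * g1) • d = c := by rw [mul_smul, mul_smul, h1d, h2e, h3e]
    refine hcd ?_
    have hodd' : Odd (orderOf (g3 * g2 * g1)) :=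
      odd_orderOf (odd_card_of_forall fun x hx => hinv x hx) hg
    have h4 := mem_of_sq_mem (H := stabilizer G c) hodd' (mem_stabilizer_iff.mpr (by rw [mul_smul, hgc, hgd]))
    rwa [mem_stabilizer_iff, hgc, eq_comm] at h4
  obtain ⟨z', hz'N, hz'i⟩ := hinv
  have heven : Even (Nat.card N) := by
    rw [even_iff_two_dvd, ← CfsgLib.Involutions.orderOf_eq_two_iff'.mpr ⟨hz'i.2, hz'i.1⟩]
    exact Subgroup.orderOf_dvd_natCard N hz'N
  have hrank : ∀ E : Subgroup N, ¬ IsKleinFour E := by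
    intro E hE
    have h2 : ∀ x : E, x * x = 1 := fun x => by
      rw [← pow_two, ← hE.exponent_two]; exact Monoid.pow_exponent_eq_one x
    haveI := Fintype.ofFinite E
    obtain ⟨x, y, hx, hy, hxy⟩ : ∃ x y : E, x ≠ 1 ∧ y ≠ 1 ∧ x ≠ y := by
      have h4 : 2 < Fintype.card E := by rw [← Nat.card_eq_fintype_card, hE.card_four]; norm_num
      obtain ⟨p1, p2, p3, h12, h13, h23⟩ := Fintype.two_lt_card_iff.mp h4
      rcases eq_or_ne p1 1 with rfl | hp1
      · exact ⟨p2, p3, h12.symm, h13.symm, h23⟩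
      rcases eq_or_ne p2 1 with rfl | hp2'
      · exact ⟨p1, p3, hp1, h23.symm, h13⟩
      · exact ⟨p1, p2, hp1, hp2', h12⟩
    have hinvE : ∀ x : E, x ≠ 1 → IsInv ((x : N) : G) := fun x hx =>
      ⟨fun e => hx (Subtype.ext (Subtype.ext e)), congrArg (fun w : E => ((w : N) : G)) (h2 x)⟩
    refine no_four hA hXodd hfpf (hinvE x hx) (hinvE y hy)
      (fun e => hxy (Subtype.ext (Subtype.ext e))) ?_ x.1.2 y.1.2
    refine congrArg (fun w : E => ((w : N) : G)) (show x * y = y * x from ?_)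
    calc x * y = x * (x * y * (x * y)) * y := by rw [h2, mul_one]
      _ = x * x * (y * x) * (y * y) := by group
      _ = y * x := by rw [h2, h2, one_mul, mul_one]
  obtain ⟨z0, hz0, O0, hO0n, hO0odd, hO0⟩ := Cfsg.Agent.S0225.result heven hrank
  set z : G := (z0 : G) with hzdef
  set O : Subgroup G := O0.map N.subtype with hOdef
  obtain ⟨hz2, hz1⟩ := CfsgLib.Involutions.orderOf_eq_two_iff'.mp hz0
  have hzi : IsInv z := ⟨fun e => hz1 (Subtype.ext e), congrArg Subtype.val hz2⟩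
  have hON : O ≤ N := Subgroup.map_subtype_le O0
  have hOodd : Odd (Nat.card O) := by rwa [hOdef, Subgroup.card_map_of_injective N.subtype_injective]
  have hcomm : ∀ g ∈ N, z * g * z⁻¹ * g⁻¹ ∈ O := fun g hg => ⟨_, hO0 ⟨g, hg⟩, rfl⟩
  have hOn : ∀ g ∈ N, ∀ o ∈ O, g * o * g⁻¹ ∈ O := by
    rintro g hg _ ⟨o, ho, rfl⟩
    exact ⟨_, hO0n.conj_mem o ho ⟨g, hg⟩, rfl⟩
  have hclass : ∀ x ∈ N, IsInv x → z * x ∈ O := by
    intro x hx hxi
    rcases Nat.even_or_odd (orderOf (z * x)) with he | ho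
    · rw [eq_of_even hA hXodd hfpf hxi hzi hx z0.2 he, hzi.2]
      exact one_mem O
    · refine mem_of_sq_mem ho ?_
      have := hcomm x hx
      rwa [hzi.inv, hxi.inv, mul_assoc (z * x)] at this
  have hcross : ∀ x ∈ N, IsInv x → ∀ r ∈ fixSet Ω X, ∀ o ∈ O, x • r ≠ o • r := by
    intro x hx hxi r hr o ho hxo
    haveI : Fact (Nat.Prime 2) := ⟨Nat.prime_two⟩
    classical
    haveI : Finite (MulAction.orbit O r) := Finite.of_equiv _ (MulAction.orbitEquivQuotientStabilizer O r).symm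
    haveI := Fintype.ofFinite (MulAction.orbit O r)
    have hmaps : ∀ q : MulAction.orbit O r, x • (q : Ω) ∈ MulAction.orbit O r := by
      rintro ⟨_, o', rfl⟩
      refine ⟨⟨x * o' * x⁻¹ * o, mul_mem (hOn x hx _ o'.2) ho⟩, ?_⟩
      show (x * (o' : G) * x⁻¹ * o) • r = x • (o' : G) • r
      rw [mul_smul, ← hxo, mul_smul, inv_smul_smul, mul_smul]
    let σ : Equiv.Perm (MulAction.orbit O r) :=
      Function.Involutive.toPerm (fun q => ⟨x • (q : Ω), hmaps q⟩)
        (fun q => Subtype.ext (hxi.smul_twice (q : Ω)))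
    have hcard : ¬ 2 ∣ Fintype.card (MulAction.orbit O r) := fun h => Nat.not_even_iff_odd.mpr hOodd
      (even_iff_two_dvd.mpr (h.trans (by
        rw [← Nat.card_eq_fintype_card, Nat.card_congr (MulAction.orbitEquivQuotientStabilizer O r),
          ← Subgroup.index_eq_card]
        exact Subgroup.index_dvd_card _)))
    obtain ⟨⟨_, o', rfl⟩, hfix⟩ := Equiv.Perm.exists_fixed_point_of_prime hcard (σ := σ) (n := 1) (by
      rw [pow_one, pow_two]
      exact Equiv.ext fun q => Subtype.ext (hxi.smul_twice (q : Ω)))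
    exact hfpf _ hx hxi _ (fixSet_smul (hON o'.2) hr) (congrArg Subtype.val hfix)
  have hswap : ∀ {c' d' : Ω}, c' ∈ fixSet Ω X → d' ∈ fixSet Ω X → c' ≠ d' →
      ∃ x ∈ N, IsInv x ∧ x • c' = d' := by
    intro c' d' hc' hd' hne
    rcases hpair c' hc' d' hd' hne with h | ⟨P, hP, hcP, hdP, honly⟩
    · exact h
    set K : Subgroup G := P ⊔ O with hK
    have hPnO : P ≤ Subgroup.normalizer (O : Set G) := fun g hg =>
      mem_normalizer_of_conj fun o ho => hOn g (hP.le hg) o ho
    have hKN : K ≤ N := sup_le hP.le hON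
    have hdec : ∀ g ∈ K, ∃ π ∈ P, ∃ o ∈ O, g = π * o := fun g hg => by
      rw [hK, ← SetLike.mem_coe, Subgroup.coe_mul_of_left_le_normalizer_right _ _ hPnO] at hg
      obtain ⟨π, hπ, o, ho, rfl⟩ := Set.mem_mul.mp hg
      exact ⟨π, hπ, o, ho, rfl⟩
    have hKodd : Odd (Nat.card K) := odd_card_of_forall fun g hg hgi => by
      obtain ⟨π, hπ, o, ho, rfl⟩ := hdec g hg
      have h2 : π * π ∈ O := by
        have h4 : π * o * π = o⁻¹ := eq_inv_of_mul_eq_one_left (by rw [mul_assoc (π * o), hgi.2])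
        rw [show π * π = (π * o * π) * (π⁻¹ * o⁻¹ * π) by group, h4]
        refine mul_mem (inv_mem ho) ?_
        simpa using hOn π⁻¹ (inv_mem (hP.le hπ)) _ (inv_mem ho)
      have h6 : π * o ∈ O := mul_mem (mem_of_sq_mem (odd_orderOf_of_pGroup hp2 hP.isPGroup hπ) h2) ho
      exact hgi.1 (eq_one_of_two_odd (by rw [pow_two, hgi.2]) (odd_orderOf hOodd h6))
    have hzK : ∀ k ∈ K, z * k * z⁻¹ ∈ K := fun k hk => by
      rw [show z * k * z⁻¹ = z * k * z⁻¹ * k⁻¹ * k by group]
      exact mul_mem ((le_sup_right : O ≤ K) (hcomm k (hKN hk))) hk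
    obtain ⟨R, hR, hzR⟩ := exists_invariant_maxP (p := p) hKodd hzi.2 hzK
    obtain ⟨g, hg, hgP⟩ := (hP.of_le hKN le_sup_left).conj hR
    have hgN := hKN hg
    have hmap : ∀ {r : Ω}, r ∈ fixSet Ω P → g • r ∈ fixSet Ω R := fun {r} hr x hx => by
      have h := hr _ ((hgP (g⁻¹ * x * g)).mpr (by simpa [mul_assoc] using hx))
      rwa [mul_smul, mul_smul, inv_smul_eq_iff] at h
    refine ⟨g⁻¹ * z * g, mul_mem (mul_mem (inv_mem hgN) z0.2) hgN,
      by simpa using hzi.conj g⁻¹, ?_⟩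
    have hback : g⁻¹ • z • g • c' ∈ fixSet Ω P := fun x hx => by
      have h := fixSet_smul hzR (hmap hcP) (g * x * g⁻¹) ((hgP x).mp hx)
      rw [mul_smul, mul_smul] at h
      rw [← smul_left_cancel_iff g, smul_inv_smul]
      exact h
    rw [mul_smul, mul_smul]
    rcases honly _ hback (fixSet_smul (inv_mem hgN) (fixSet_smul z0.2 (fixSet_smul hgN hc'))) with h | h
    · exact absurd (inv_smul_eq_iff.mp h) (hfpf _ z0.2 hzi _ (fixSet_smul hgN hc'))
    · exact h
  have hOfix : ∀ o ∈ O, ∀ r ∈ fixSet Ω X, o • r = r := by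
    intro o ho r hr
    by_contra hne
    obtain ⟨x, hx, hxi, hxr⟩ := hswap hr (fixSet_smul (hON ho) hr) (Ne.symm hne)
    exact hcross x hx hxi r hr o ho hxr
  have hz : ∀ {c' d' : Ω}, c' ∈ fixSet Ω X → d' ∈ fixSet Ω X → c' ≠ d' → z • c' = d' := by
    intro c' d' hc' hd' hne
    obtain ⟨x, hx, hxi, hxc⟩ := hswap hc' hd' hne
    rw [show z = (z * x) * x by rw [mul_assoc, hxi.2, mul_one], mul_smul, hxc]
    exact hOfix _ (hclass x hx hxi) _ hd'
  exact hde ((hz hc hd hcd).symm.trans (hz hc he hce))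

end CfsgLib.Bender.OddCore
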