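import Cfsg.Agent.Lib.Bender.OddCore.Regular
import Cfsg.Agent.Lib.Frobenius.Kernel

/-!
A complement of the two-point part of the odd core invariant under the point stabiliser, and the 2-elements
normalising the two-point part.

Blueprint: `blueprint/bender/E_OddCore.md`, step C.
-/

set_option autoImplicit false
set_option linter.unusedSectionVars false
set_option linter.style.haveILetI false

namespace CfsgLib.Bender.OddCore

open MulAction Cfsg CfsgLib.SuzukiRankOne
open scoped Pointwise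
open CfsgLib.Bender.TwoClosed (IsInv IsInv.inv IsInv.conj IsInv.smul_twice two InvAt Swap smul_conj mem_two mem_two_comm
  exists_inv_of_even odd_card_of_forall odd_orderOf eq_one_of_two_odd eq_one_of_inv_eq MaxP exists_maxP maxP_of_card
  mem_normalizer_of_conj conj_mem_of_normalizer exists_mem_normalizer fixSet fixSet_smul mem_of_sq_mem)

universe u v

variable {G : Type u} {Ω : Type v} [Group G] [Finite G] [MulAction G Ω] [FaithfulSMul G Ω]
  {N M : Ω → Subgroup G} {a b : Ω} (hC : Core G Ω N M) (ih : Below.{u, v} (Nat.card G))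
include hC ih

/-- A core fixing a second point is trivial. -/
theorem core_bot_of_fix (hb : b ≠ a) (h : N a ≤ stabilizer G b) : N a = ⊥ :=
  (Subgroup.eq_bot_iff_forall _).mpr fun g hg => eq_of_smul_eq_smul (α := Ω) fun c => by
    rw [one_smul]
    rcases eq_or_ne c a with rfl | hc
    · exact smul_of_N hC hg
    obtain ⟨k, hka, rfl⟩ := two_transitive hC hb hc
    have h1 := conj_N hC (h := k⁻¹) (inv_smul_eq_iff.mpr hka.symm) hg
    rw [inv_inv] at h1
    have h2 := mem_stabilizer_iff.mp (h h1)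
    rwa [mul_smul, mul_smul, inv_smul_eq_iff] at h2

/-- A core element normalising the non-trivial two-point part lies in it. -/
theorem mem_E_of_normalizer (hb : b ≠ a) (hE : N a ⊓ stabilizer G b ≠ ⊥) {o : G} (ho : o ∈ N a)
    (hn : o ∈ Subgroup.normalizer ((N a ⊓ stabilizer G b : Subgroup G) : Set G)) : o • b = b := by
  by_contra hob
  refine hE ((Subgroup.eq_bot_iff_forall _).mpr fun g hg =>
    malnormal hC ih hb ho hob hg.1 (mem_stabilizer_iff.mp hg.2) ?_)
  exact fixSet_smul hn (fun x hx => mem_stabilizer_iff.mp hx.2) g hg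

/-- A swapper centralises the two-point part of the core. -/
theorem swap_commute (hb : b ≠ a) {u : G} (hu : IsInv u) (hua : u • a = b) {y : G}
    (hy : y ∈ N a ⊓ stabilizer G b) : u * y = y * u := by
  have hub := swap_back hC.act hu hua
  have hyb : y • b = b := mem_stabilizer_iff.mp hy.2
  have h1 := hC.conjN u b y (mem_N_of_fix hC ih hb hy.1 hyb)
  rw [hub, hu.inv] at h1
  set w : G := y⁻¹ * (u * y * u) with hw
  have hwN : w ∈ N a := mul_mem (inv_mem hy.1) h1
  obtain ⟨x, hx, hxa⟩ := exists_inv_at hC.act a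
  have hinv : u * w * u = w⁻¹ := by
    rw [hw, mul_inv_rev, mul_inv_rev, mul_inv_rev, inv_inv, hu.inv]
    calc u * (y⁻¹ * (u * y * u)) * u = u * y⁻¹ * u * y * (u * u) := by group
      _ = _ := by rw [hu.2]; group
  have hw1 := inverted_commute hC.act hu hx (odd_orderOf (hC.oddN a) hwN) hinv (core_commute hC ih hx hxa hwN)
    hxa (by rw [hua]; exact hb)
  rw [hw, inv_mul_eq_one] at hw1
  calc u * y = u * (u * y * u) := by rw [← hw1]
    _ = y * u := by rw [← mul_assoc, ← mul_assoc, hu.2, one_mul]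

/-- An element of the two-point stabiliser outside `M` centralising the two-point part of the core. -/
theorem exists_cent_not_mem (hb : b ≠ a) : ∃ d ∈ (two a b : Subgroup G),
    (∀ y ∈ N a ⊓ stabilizer G b, d * y = y * d) ∧ d ∉ M a := by
  obtain ⟨x, x', hx, hxa, hx', hxa', hne⟩ := exists_two_at hC.act a
  haveI : Nontrivial (InvAt G a) :=
    ⟨⟨⟨x, hx, hxa⟩, ⟨x', hx', hxa'⟩, fun e => hne (congrArg Subtype.val e)⟩⟩
  have h1 : 1 < Nat.card (Swap G a b) := by rw [card_swap hC.act hb]; exact Finite.one_lt_card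
  haveI := Finite.one_lt_card_iff_nontrivial.mp h1
  obtain ⟨⟨u, hu, hua⟩, ⟨w, hw, hwa⟩, huw⟩ := exists_pair_ne (Swap G a b)
  have hd : w * u ∈ (two a b : Subgroup G) := mem_two.mpr
    ⟨by rw [mul_smul, hua, swap_back hC.act hw hwa], by rw [mul_smul, swap_back hC.act hu hua, hwa]⟩
  refine ⟨w * u, hd, fun y hy => ?_, fun hM => huw (Subtype.ext ?_)⟩
  · rw [mul_assoc, swap_commute hC ih hb hu hua hy, ← mul_assoc, swap_commute hC ih hb hw hwa hy, mul_assoc]
  · have ho := odd_orderOf (odd_two hC.act hb.symm) hd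
    have hE : w * u ∈ N a ⊓ stabilizer G b := ⟨mem_N_of_odd hC hM ho, hd.2⟩
    have hc := swap_commute hC ih hb hu hua hE
    have hinv : (w * u)⁻¹ = w * u := by
      rw [mul_inv_rev, hu.inv, hw.inv]
      calc u * w = u * (w * u) * u := by rw [mul_assoc, mul_assoc w u u, hu.2, mul_one]
        _ = w * u := by rw [hc, mul_assoc, hu.2, mul_one]
    have h2 := eq_one_of_inv_eq hinv ho
    rw [mul_eq_one_iff_eq_inv, hu.inv] at h2
    exact h2.symm

/-- The 2-elements of `M` normalising the two-point part of the core centralise it. -/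
theorem two_commute (hb : b ≠ a) {s : G}
    (hs : s ∈ M a ⊓ Subgroup.normalizer ((N a ⊓ stabilizer G b : Subgroup G) : Set G))
    {k : ℕ} (hk : s ^ 2 ^ k = 1) {y : G} (hy : y ∈ N a ⊓ stabilizer G b) : s * y = y * s := by
  set E : Subgroup G := N a ⊓ stabilizer G b
  rcases eq_or_ne E ⊥ with hE | hE
  · rw [hE, Subgroup.mem_bot] at hy
    rw [hy, one_mul, mul_one]
  set A : Subgroup G := M a ⊓ Subgroup.normalizer (E : Set G)
  obtain ⟨d, hd, hdE, hdM⟩ := exists_cent_not_mem hC ih hb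
  have hda := (mem_two.mp hd).1
  have hdn : d ∈ Subgroup.normalizer (E : Set G) :=
    mem_normalizer_of_conj fun w hw => by rw [hdE w hw, mul_inv_cancel_right]; exact hw
  set φ : A →* A :=
    { toFun := fun t => ⟨d * t * d⁻¹, conj_M hC hda t.2.1, (Subgroup.normalizer (E : Set G)).mul_mem
          ((Subgroup.normalizer (E : Set G)).mul_mem hdn t.2.2) ((Subgroup.normalizer (E : Set G)).inv_mem hdn)⟩
      map_one' := Subtype.ext (by simp)
      map_mul' := fun t t' => Subtype.ext (by simp [mul_assoc]) }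
  have hφ : ∀ t : A, ((φ t : A) : G) = d * t * d⁻¹ := fun _ => rfl
  set L : Subgroup A := (N a).subgroupOf A with hL
  haveI : L.Normal := ⟨fun n hn g => conj_N hC (smul_of_M hC g.2.1) hn⟩
  set θ : A ⧸ L →* A ⧸ L := QuotientGroup.map L L φ fun t ht => conj_N hC hda ht with hθdef
  have hθ : MonoidHom.FixedPointFree θ := by
    intro g hg
    by_contra hg1
    obtain ⟨x, rfl⟩ := QuotientGroup.mk'_surjective L g
    have h2 : IsPGroup 2 (A ⧸ L) := fun q => by
      obtain ⟨t, rfl⟩ := QuotientGroup.mk'_surjective L q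
      obtain ⟨e, he⟩ := hC.quot a t t.2.1
      exact ⟨e, (QuotientGroup.eq_one_iff _).mpr he⟩
    obtain ⟨j, hj⟩ := IsPGroup.iff_orderOf.mp h2 (QuotientGroup.mk' L x)
    obtain ⟨i, rfl⟩ : ∃ i, j = i + 1 := Nat.exists_eq_succ_of_ne_zero fun e =>
      hg1 (orderOf_eq_one_iff.mp (by rw [hj, e, pow_zero]))
    set w : A := x ^ 2 ^ i with hw
    have hwL : w ∉ L := fun h => by
      have h3 : QuotientGroup.mk' L x ^ 2 ^ i = 1 := by
        rw [← map_pow]; exact (QuotientGroup.eq_one_iff _).mpr h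
      have h4 := orderOf_dvd_of_pow_eq_one h3
      rw [hj, Nat.pow_dvd_pow_iff_le_right (by norm_num : 1 < 2)] at h4
      omega
    have hw2 : w * w ∈ L := by
      refine (QuotientGroup.eq_one_iff _).mp ?_
      show QuotientGroup.mk' L (w * w) = 1
      rw [hw, ← pow_add, map_pow, ← two_mul, ← pow_succ', ← hj, pow_orderOf_eq_one]
    have hwfix : (φ w)⁻¹ * w ∈ L := by
      refine QuotientGroup.eq.mp ?_
      show θ (QuotientGroup.mk' L w) = QuotientGroup.mk' L w
      rw [hw, map_pow, map_pow, hg]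
    obtain ⟨l, hl⟩ : Odd (Nat.card L) := (hC.oddN a).of_dvd_nat
      (Subgroup.card_comap_dvd_of_injective (N a) A.subtype A.subtype_injective)
    set z : A := w * (w * w) ^ l with hz
    have hzw : w⁻¹ * z ∈ L := by rw [hz, inv_mul_cancel_left]; exact pow_mem hw2 l
    have hz2 : z * z = 1 := by
      have h3 : (w * w) ^ (2 * l + 1) = 1 := by
        rw [← hl]
        exact congrArg Subtype.val (pow_card_eq_one' (x := (⟨w * w, hw2⟩ : L)))
      have hc : Commute w ((w * w) ^ l) := ((Commute.refl w).mul_right (Commute.refl w)).pow_right l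
      rw [← h3, hz, pow_succ', two_mul, pow_add]
      calc w * (w * w) ^ l * (w * (w * w) ^ l) = w * ((w * w) ^ l * w) * (w * w) ^ l := by group
        _ = _ := by rw [← hc.eq]; group
    have hzi : IsInv (z : G) := by
      refine ⟨fun e => hwL ?_, congrArg Subtype.val hz2⟩
      rw [show z = 1 from Subtype.ext e, mul_one] at hzw
      simpa using inv_mem hzw
    have hza := smul_of_M hC z.2.1
    have hzfix : (φ z)⁻¹ * z ∈ L := by
      have h3 : (φ (w⁻¹ * z)) ∈ L := conj_N hC hda hzw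
      have h4 : φ z = φ w * φ (w⁻¹ * z) := by rw [← map_mul, mul_inv_cancel_left]
      rw [show (φ z)⁻¹ * z = (φ (w⁻¹ * z))⁻¹ * ((φ w)⁻¹ * w) * (w⁻¹ * z) by rw [h4]; group]
      exact mul_mem (mul_mem (inv_mem h3) hwfix) hzw
    have hzd : IsInv (d * (z : G) * d⁻¹) := hzi.conj d
    have heq := inv_eq_of_mem hC ih hzd (by rw [mul_smul, mul_smul, inv_smul_eq_iff.mpr hda.symm, hza, hda])
      hzi hza (by
        have h3 : ((φ z : A) : G)⁻¹ * (z : G) ∈ N a := hzfix
        rwa [hφ, hzd.inv] at h3)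
    exact hdM (hC.cent a (z : G) d hzi hza (mul_inv_eq_iff_eq_mul.mp heq))
  obtain ⟨q, hq⟩ := hθ.commutatorMap_surjective (QuotientGroup.mk' L ⟨s, hs⟩)
  obtain ⟨t, rfl⟩ := QuotientGroup.mk'_surjective L q
  have hq' : ((t / φ t : A) : A ⧸ L) = ((⟨s, hs⟩ : A) : A ⧸ L) := hq
  have hmem := QuotientGroup.eq.mp hq'
  set c : G := (t : G) * (d * (t : G) * d⁻¹)⁻¹ with hc
  have hcE : ∀ w ∈ E, c * w * c⁻¹ = w := fun w hw => by
    have h5 : (t : G)⁻¹ * w * t ∈ E := by
      simpa using conj_mem_of_normalizer (inv_mem (t.2.2 : (t : G) ∈ Subgroup.normalizer (E : Set G))) hw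
    have h6 := hdE w hw
    have h7 := hdE _ h5
    rw [hc]
    calc (t : G) * (d * t * d⁻¹)⁻¹ * w * ((t : G) * (d * t * d⁻¹)⁻¹)⁻¹
        = t * d * ((t : G)⁻¹ * (d⁻¹ * (w * d)) * t) * d⁻¹ * (t : G)⁻¹ := by group
      _ = t * (d * ((t : G)⁻¹ * w * t)) * d⁻¹ * (t : G)⁻¹ := by rw [← h6]; group
      _ = w := by rw [h7]; group
  have hct : ((t / φ t : A) : G) = c := by rw [hc, div_eq_mul_inv]; rfl
  have hcA : c⁻¹ * s ∈ A ∧ c⁻¹ * s ∈ N a := by
    rw [← hct]
    exact ⟨A.mul_mem (A.inv_mem (t / φ t).2) hs, hmem⟩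
  have hlE : c⁻¹ * s ∈ E :=
    ⟨hcA.2, mem_stabilizer_iff.mpr (mem_E_of_normalizer hC ih hb hE hcA.2 hcA.1.2)⟩
  set l := c⁻¹ * s with hldef
  have hsl : ∀ w ∈ E, s * w * s⁻¹ = l * w * l⁻¹ := fun w hw => by
    calc s * w * s⁻¹ = c * (l * w * l⁻¹) * c⁻¹ := by rw [hldef]; group
      _ = l * w * l⁻¹ := hcE _ (E.mul_mem (E.mul_mem hlE hw) (E.inv_mem hlE))
  have hpow : ∀ n : ℕ, s ^ n * y * (s ^ n)⁻¹ = l ^ n * y * (l ^ n)⁻¹ := by
    intro n
    induction n with
    | zero => simp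
    | succ n ihn =>
      have h8 : l ^ n * y * (l ^ n)⁻¹ ∈ E :=
        E.mul_mem (E.mul_mem (E.pow_mem hlE n) hy) (E.inv_mem (E.pow_mem hlE n))
      calc s ^ (n + 1) * y * (s ^ (n + 1))⁻¹ = s * (s ^ n * y * (s ^ n)⁻¹) * s⁻¹ := by
            rw [pow_succ']; group
        _ = l * (l ^ n * y * (l ^ n)⁻¹) * l⁻¹ := by rw [ihn, hsl _ h8]
        _ = _ := by rw [pow_succ']; group
  have h9 : Commute (l ^ 2 ^ k) y := by
    have := hpow (2 ^ k)
    rw [hk, one_mul, inv_one, mul_one] at this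
    exact mul_inv_eq_iff_eq_mul.mp this.symm
  have hodd := odd_orderOf (hC.oddN a) hcA.2
  obtain ⟨e, he⟩ := exists_pow_eq_self_of_coprime (n := 2 ^ k) (x := l)
    ((Nat.coprime_two_left.mpr hodd).pow_left k)
  have h10 : Commute l y := he ▸ h9.pow_left e
  have h11 := hsl y hy
  rw [h10.eq, mul_inv_cancel_right] at h11
  exact mul_inv_eq_iff_eq_mul.mp h11

/-- The complement of the two-point part in the core. -/
theorem exists_kernel_data (hb : b ≠ a) (hne : ¬ N a ≤ stabilizer G b) :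
    ∃ K : Subgroup G, K ≤ N a ∧ (∀ h : G, h • a = a → ∀ x ∈ K, h * x * h⁻¹ ∈ K) ∧
      K ⊓ stabilizer G b = ⊥ ∧ N a ≤ K ⊔ (N a ⊓ stabilizer G b) ∧
      ∀ m ∈ M a, ∃ n ∈ N a,
        n⁻¹ * m ∈ Subgroup.normalizer ((N a ⊓ stabilizer G b : Subgroup G) : Set G) := by
  set E : Subgroup G := N a ⊓ stabilizer G b
  rcases eq_or_ne E ⊥ with hE | hE
  · refine ⟨N a, le_rfl, fun h hh x hx => conj_N hC hh hx, hE, le_sup_left, fun m _ => ⟨1, one_mem _, ?_⟩⟩
    exact mem_normalizer_of_conj fun x hx => by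
      rw [hE] at hx ⊢
      rw [Subgroup.mem_bot.mp hx, mul_one, mul_inv_cancel]
      exact one_mem _
  set E' : Subgroup (N a) := E.subgroupOf (N a) with hE'
  have hfrob : IsFrobeniusComplement E' := by
    refine ⟨fun e => hE ?_, fun e => hne ?_, fun g hg => ?_⟩
    · rw [hE', Subgroup.subgroupOf_eq_bot] at e
      exact e.eq_bot_of_le inf_le_left
    · exact (Subgroup.subgroupOf_eq_top.mp e).trans inf_le_right
    · rw [Subgroup.eq_bot_iff_forall]
      intro x hx
      obtain ⟨hx1, hx2⟩ := Subgroup.mem_inf.mp hx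
      rw [CfsgLib.mem_conj_smul_iff] at hx2
      have hgb : (g : G) • b ≠ b := fun e => hg ⟨g.2, mem_stabilizer_iff.mpr e⟩
      refine Subtype.ext (malnormal hC ih hb g.2 hgb x.2 (mem_stabilizer_iff.mp hx1.2) ?_)
      have h1 : ((g : G)⁻¹ * x * g) • b = b := mem_stabilizer_iff.mp hx2.2
      rwa [mul_smul, mul_smul, inv_smul_eq_iff] at h1
  obtain ⟨K', hK1, hK2, hK3, hK4⟩ := CfsgLib.Frob.exists_nilpotent_kernel hfrob
  haveI := hK2
  haveI := hK4
  have hconj : ∀ h : G, h • a = a → ∃ f : N a ≃* N a, ∀ x : N a, (f x : G) = h * x * h⁻¹ := fun h hh =>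
    ⟨{ toFun := fun x => ⟨h * x * h⁻¹, conj_N hC hh x.2⟩
       invFun := fun x => ⟨h⁻¹ * x * h, by
         simpa using conj_N hC (h := h⁻¹) (inv_smul_eq_iff.mpr hh.symm) x.2⟩
       left_inv := fun x => Subtype.ext (by simp [mul_assoc])
       right_inv := fun x => Subtype.ext (by simp [mul_assoc])
       map_mul' := fun x y => Subtype.ext (by simp [mul_assoc]) }, fun _ => rfl⟩
  refine ⟨K'.map (N a).subtype, Subgroup.map_subtype_le _, ?_, ?_, ?_, ?_⟩
  · rintro h hh _ ⟨x, hx, rfl⟩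
    obtain ⟨f, hf⟩ := hconj h hh
    haveI : (K'.map f.toMonoidHom).Normal := hK2.map _ f.surjective
    have hnil : Group.IsNilpotent ↥(K'.map f.toMonoidHom) :=
      Group.nilpotent_of_mulEquiv (K'.equivMapOfInjective _ f.injective)
    exact ⟨f x, CfsgLib.Frob.nilpotent_normal_le_kernel hfrob hK1 hK3 hnil ⟨x, hx, rfl⟩, hf x⟩
  · rw [Subgroup.eq_bot_iff_forall]
    rintro _ ⟨⟨x, hx, rfl⟩, hxb⟩
    exact congrArg Subtype.val (Subgroup.disjoint_def.mp hK3.disjoint hx ⟨x.2, hxb⟩)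
  · intro x hx
    obtain ⟨⟨⟨k, hk⟩, ⟨e, he⟩⟩, hke⟩ :=
      (show Function.Surjective fun z : K' × E' => (z.1 : N a) * z.2 from hK3.2) ⟨x, hx⟩
    rw [← show ((k * e : N a) : G) = x from congrArg Subtype.val hke, Subgroup.coe_mul]
    exact Subgroup.mul_mem_sup ⟨k, hk, rfl⟩ he
  · intro m hm
    obtain ⟨f, hf⟩ := hconj m (smul_of_M hC hm)
    have hfr : IsFrobeniusComplement (E'.map f.toMonoidHom) := by
      refine ⟨fun e => hfrob.1 ((Subgroup.map_eq_bot_iff_of_injective _ f.injective).mp e), fun e => hfrob.2.1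
        (Subgroup.map_injective f.injective (e.trans (Subgroup.map_top_of_surjective _ f.surjective).symm)),
        fun g hg => ?_⟩
      obtain ⟨g, rfl⟩ := f.surjective g
      rw [Subgroup.eq_bot_iff_forall]
      intro x hx
      obtain ⟨hx1, hx2⟩ := Subgroup.mem_inf.mp hx
      obtain ⟨x, hx1, rfl⟩ := hx1
      rw [CfsgLib.mem_conj_smul_iff] at hx2
      obtain ⟨w, hw, hwe⟩ := hx2
      have hwe' : w = g⁻¹ * x * g := f.injective (by simpa using hwe)
      have h1 : x ∈ E' ⊓ MulAut.conj g • E' := ⟨hx1, CfsgLib.mem_conj_smul_iff.mpr (hwe' ▸ hw)⟩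
      rw [hfrob.2.2 g fun h => hg ⟨g, h, rfl⟩, Subgroup.mem_bot] at h1
      rw [h1, map_one]
    obtain ⟨n, hn⟩ := CfsgLib.Frob.complements_conj_frob hfrob hfr
    refine ⟨(n : G)⁻¹, inv_mem n.2, mem_normalizer_of_conj fun x hx => ?_⟩
    have h2 : n * f ⟨x, hx.1⟩ * n⁻¹ ∈ MulAut.conj n • E'.map f.toMonoidHom :=
      CfsgLib.mem_conj_smul_iff.mpr (by
        rw [show n⁻¹ * (n * f ⟨x, hx.1⟩ * n⁻¹) * n = f ⟨x, hx.1⟩ by group]
        exact ⟨⟨x, hx.1⟩, hx, rfl⟩)
    rw [hn] at h2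
    have h3 : (n : G) * (f ⟨x, hx.1⟩ : G) * (n : G)⁻¹ ∈ E := h2
    rw [hf] at h3
    simpa [mul_assoc] using h3

end CfsgLib.Bender.OddCore
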