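import Cfsg.Agent.Lib.Bender.OddCore.Base

/-!
Two-point stabilisers of a `Core` action: orders, Sylow subgroups and the primes moving `M`.

Blueprint: `blueprint/bender/E_OddCore.md`.
-/

set_option autoImplicit false
set_option linter.unusedSectionVars false
set_option linter.style.haveILetI false

namespace CfsgLib.Bender.OddCore

open MulAction Cfsg CfsgLib.SuzukiRankOne
open CfsgLib.Bender.TwoClosed (IsInv IsInv.inv IsInv.conj IsInv.smul_twice two InvAt Swap smul_conj mem_two mem_two_comm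
  exists_inv_of_even odd_card_of_forall odd_orderOf eq_one_of_two_odd eq_one_of_inv_eq MaxP exists_maxP maxP_of_card
  exists_invariant_maxP mem_normalizer_of_conj conj_mem_of_normalizer exists_mem_normalizer fixSet fixSet_smul)

universe u v

variable {G : Type u} {Ω : Type v} [Group G] [Finite G] [MulAction G Ω] {N M : Ω → Subgroup G} {a b : Ω}

/-- The Sylow `q`-subgroups of the two-point stabilisers move `N`. -/
def Moves (q : ℕ) (N : Ω → Subgroup G) : Prop :=
  ∀ x y : Ω, x ≠ y → ∀ T : Subgroup G, MaxP q (two x y) T → ¬ T ≤ N x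

/-- The centraliser of an element. -/
abbrev cz (z : G) : Subgroup G := Subgroup.centralizer ({z} : Set G)

theorem mem_cz {z g : G} : g ∈ cz z ↔ g * z = z * g := Subgroup.mem_centralizer_singleton_iff

section Act

variable (hA : Act G Ω)
include hA

/-- The order of a two-point stabiliser, by an involution fixing one of the points. -/
theorem card_two_at (hb : b ≠ a) {z : G} (hz : IsInv z) (hza : z • a = a) :
    Nat.card (two a b : Subgroup G) = Nat.card (InvAt G a) * Nat.card ↥(two a b ⊓ cz z) := by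
  set D : Subgroup G := two a b
  set K := (D ⊓ cz z).subgroupOf D
  rw [Subgroup.card_eq_card_quotient_mul_card_subgroup K,
    Nat.card_congr (Subgroup.subgroupOfEquivOfLe (inf_le_left : D ⊓ cz z ≤ D)).toEquiv]
  congr 1
  have hw : ∀ e : D, IsInv ((e : G) * z * (e : G)⁻¹) ∧ ((e : G) * z * (e : G)⁻¹) • a = a := fun e => by
    obtain ⟨h1, -⟩ := mem_two.mp e.2
    exact ⟨hz.conj e, by rw [mul_smul, mul_smul, inv_smul_eq_iff.mpr h1.symm, hza, h1]⟩
  have hiff : ∀ e e' : D, (e : G) * z * (e : G)⁻¹ = (e' : G) * z * (e' : G)⁻¹ ↔ e⁻¹ * e' ∈ K := fun e e' => by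
    rw [Subgroup.mem_subgroupOf, Subgroup.mem_inf, mem_cz, and_iff_right (e⁻¹ * e').2, Subgroup.coe_mul,
      Subgroup.coe_inv]
    constructor
    · intro h
      calc (e : G)⁻¹ * e' * z = (e : G)⁻¹ * ((e' : G) * z * (e' : G)⁻¹) * e' := by group
        _ = z * ((e : G)⁻¹ * e') := by rw [← h]; group
    · intro h
      calc (e : G) * z * (e : G)⁻¹ = (e : G) * (z * ((e : G)⁻¹ * e')) * (e' : G)⁻¹ := by group
        _ = _ := by rw [← h]; group
  refine Nat.card_eq_of_bijective (Quotient.lift (fun e : D => (⟨_, hw e⟩ : InvAt G a)) fun e e' h =>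
    Subtype.ext ((hiff e e').mpr (QuotientGroup.leftRel_apply.mp h))) ⟨?_, ?_⟩
  · intro x y h
    induction x using Quotient.inductionOn
    induction y using Quotient.inductionOn
    exact Quotient.sound (QuotientGroup.leftRel_apply.mpr ((hiff _ _).mp (congrArg Subtype.val h)))
  · rintro ⟨w, hwi, hwa⟩
    obtain ⟨d, hd, he⟩ := exists_conj_stab hA hz hza hwi hwa hb.symm
    exact ⟨Quotient.mk _ ⟨d, hd⟩, Subtype.ext he⟩

theorem swap_conj_two {u : G} (hu : IsInv u) (hua : u • a = b) : ∀ k ∈ (two a b : Subgroup G),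
    u * k * u⁻¹ ∈ (two a b : Subgroup G) := fun k hk => by
  obtain ⟨h1, h2⟩ := mem_two.mp hk
  have hub := swap_back hA hu hua
  rw [hu.inv]
  exact mem_two.mpr ⟨by rw [mul_smul, mul_smul, hua, h2, hub], by rw [mul_smul, mul_smul, hub, h1, hua]⟩

/-- A Sylow subgroup of a two-point stabiliser is normalised by a swapping involution. -/
theorem swap_maxP {p : ℕ} [Fact p.Prime] (hb : b ≠ a) {T : Subgroup G} (hT : MaxP p (two a b) T) :
    ∃ x ∈ Subgroup.normalizer (T : Set G), IsInv x ∧ x • a = b := by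
  obtain ⟨⟨u, hu, hua⟩⟩ := exists_swap hA hb.symm
  obtain ⟨R, hR, huR⟩ := exists_invariant_maxP (p := p) (odd_two hA hb.symm) hu.2 (swap_conj_two hA hu hua)
  obtain ⟨g, hg, hgR⟩ := hR.conj hT
  obtain ⟨h1, h2⟩ := mem_two.mp hg
  refine ⟨g * u * g⁻¹, mem_normalizer_of_conj fun x hx => ?_, hu.conj g, ?_⟩
  · have h3 : g⁻¹ * x * g ∈ R := (hgR _).mpr (by simpa [mul_assoc] using hx)
    have h4 := (hgR _).mp (conj_mem_of_normalizer huR h3)
    simpa [mul_assoc] using h4
  · rw [mul_smul, mul_smul, inv_smul_eq_iff.mpr h1.symm, hua, h2]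

end Act

section Core

variable (hC : Core G Ω N M)
include hC

/-- The index of `M` in the stabiliser, read in a two-point stabiliser. -/
theorem relIndex_two (hb : b ≠ a) :
    (M a).relIndex (two a b) = (M a).relIndex (stabilizer G a) := by
  set D : Subgroup G := two a b
  set H := stabilizer G a
  unfold Subgroup.relIndex Subgroup.index
  refine Nat.card_eq_of_bijective (Quotient.map' (Subgroup.inclusion (inf_le_left : D ≤ H)) fun x y h => ?_)
    ⟨?_, ?_⟩
  · rw [QuotientGroup.leftRel_apply] at h ⊢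
    exact h
  · intro x y h
    induction x using Quotient.inductionOn' with | h x =>
    induction y using Quotient.inductionOn' with | h y =>
    rw [Quotient.map'_mk'', Quotient.map'_mk'', Quotient.eq'', QuotientGroup.leftRel_apply] at h
    exact Quotient.sound' (QuotientGroup.leftRel_apply.mpr h)
  · intro y
    induction y using Quotient.inductionOn' with | h y =>
    obtain ⟨d, hd, hdM⟩ := two_decomp hC hb (mem_stabilizer_iff.mp y.2)
    refine ⟨Quotient.mk'' ⟨d, hd⟩, ?_⟩
    rw [Quotient.map'_mk'', Quotient.eq'', QuotientGroup.leftRel_apply]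
    exact hdM

theorem relIndex_eq (a c : Ω) : (M c).relIndex (stabilizer G c) = (M a).relIndex (stabilizer G a) := by
  haveI := hC.act.trans
  obtain ⟨g, rfl⟩ := exists_smul_eq G a c
  have hM : (M a).map (MulAut.conj g).toMonoidHom = M (g • a) := by
    refine le_antisymm ?_ fun x hx => ?_
    · rintro _ ⟨x, hx, rfl⟩
      exact hC.conjM g a x hx
    · refine ⟨g⁻¹ * x * g, ?_, by simp [mul_assoc]⟩
      simpa using hC.conjM g⁻¹ (g • a) x hx
  rw [stabilizer_smul_eq_stabilizer_map_conj, ← hM,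
    Subgroup.relIndex_map_map_of_injective _ _ (MulAut.conj g).injective]

theorem moves_of_dvd (a : Ω) {q : ℕ} [Fact q.Prime] (hq : q ∣ (M a).relIndex (stabilizer G a)) :
    Moves q N := fun x y hxy T hT hle => by
  have h1 : (M x).relIndex (two x y) = (M a).relIndex (stabilizer G a) :=
    (relIndex_two hC hxy.symm).trans (relIndex_eq hC a x)
  have h2 : (M x).relIndex (two x y) ∣ T.relIndex (two x y) :=
    Subgroup.relIndex_dvd_of_le_left _ (hle.trans (hC.N_le x))
  obtain ⟨P, hP⟩ := hT.sylow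
  have h3 : ¬ q ∣ T.relIndex (two x y) := by
    rw [Subgroup.relIndex, ← hP]
    exact P.not_dvd_index
  exact h3 ((h1 ▸ hq).trans h2)

theorem exists_moving_prime [FaithfulSMul G Ω] (a : Ω) :
    ∃ q : ℕ, q.Prime ∧ q ≠ 2 ∧ q ∣ (M a).relIndex (stabilizer G a) := by
  obtain ⟨h, hh, hhM⟩ := exists_not_mem_M hC a
  obtain ⟨q, hq, hdvd⟩ := Nat.exists_prime_and_dvd (n := (M a).relIndex (stabilizer G a)) fun e =>
    hhM (Subgroup.relIndex_eq_one.mp e (mem_stabilizer_iff.mpr hh))
  obtain ⟨b, hb⟩ := exists_ne (a := a) hC.act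
  refine ⟨q, hq, ?_, hdvd⟩
  rintro rfl
  refine Nat.not_even_iff_odd.mpr (odd_two hC.act hb.symm) (even_iff_two_dvd.mpr (hdvd.trans ?_))
  rw [← relIndex_two hC hb]
  exact Subgroup.relIndex_dvd_card _ _

theorem ne_two_of_dvd [FaithfulSMul G Ω] (a : Ω) {q : ℕ} (hq : q ∣ (M a).relIndex (stabilizer G a)) :
    q ≠ 2 := by
  rintro rfl
  obtain ⟨b, hb⟩ := exists_ne (a := a) hC.act
  refine Nat.not_even_iff_odd.mpr (odd_two hC.act hb.symm) (even_iff_two_dvd.mpr (hq.trans ?_))
  rw [← relIndex_two hC hb]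
  exact Subgroup.relIndex_dvd_card _ _

end Core

end CfsgLib.Bender.OddCore
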