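import Cfsg.Agent.Lib.Bender.OddCore.Cent

/-!
The elements of the odd core fixing a second point lie in its core; they form a malnormal subgroup of the core.

Blueprint: `blueprint/bender/E_OddCore.md`, step C.
-/

set_option autoImplicit false
set_option linter.unusedSectionVars false
set_option linter.style.haveILetI false

namespace CfsgLib.Bender.OddCore

open MulAction Cfsg CfsgLib.SuzukiRankOne
open CfsgLib.Bender.TwoClosed (IsInv IsInv.inv IsInv.conj IsInv.smul_twice two InvAt Swap smul_conj mem_two mem_two_comm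
  exists_inv_of_even odd_card_of_forall odd_orderOf eq_one_of_two_odd eq_one_of_inv_eq MaxP exists_maxP maxP_of_card
  mem_normalizer_of_conj conj_mem_of_normalizer exists_mem_normalizer fixSet fixSet_smul mem_of_sq_mem)

universe u v

variable {G : Type u} {Ω : Type v} [Group G] [Finite G] [MulAction G Ω] [FaithfulSMul G Ω]
  {N M : Ω → Subgroup G} {a b : Ω} (hC : Core G Ω N M)
include hC

/-- A subgroup of `M a` is the product of its part in the core and a Sylow 2-subgroup. -/
theorem le_core_sup {K S : Subgroup G} (hK : K ≤ M a) (hS : MaxP 2 K S) : K ≤ (N a ⊓ K) ⊔ S := by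
  haveI : Fact (Nat.Prime 2) := ⟨Nat.prime_two⟩
  set L : Subgroup K := (N a).subgroupOf K with hL
  haveI : L.Normal := ⟨fun n hn k => conj_N hC (smul_of_M hC (hK k.2)) hn⟩
  set J : Subgroup K := ((N a ⊓ K) ⊔ S).subgroupOf K
  obtain ⟨T, hT⟩ := hS.sylow
  have h1 : J.index ∣ (T : Subgroup K).index :=
    Subgroup.index_dvd_of_le fun x hx => Subgroup.mem_sup_right (by rw [hT] at hx; exact hx)
  have h2 : J.index ∣ L.index := Subgroup.index_dvd_of_le fun x hx => Subgroup.mem_sup_left ⟨hx, x.2⟩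
  have hq : IsPGroup 2 (K ⧸ L) := fun x => by
    obtain ⟨k, rfl⟩ := QuotientGroup.mk'_surjective L x
    obtain ⟨e, he⟩ := hC.quot a k (hK k.2)
    exact ⟨e, (QuotientGroup.eq_one_iff _).mpr he⟩
  obtain ⟨e, he⟩ := IsPGroup.iff_card.mp hq
  rw [← Subgroup.index_eq_card] at he
  obtain ⟨j, -, hj⟩ := (Nat.dvd_prime_pow Nat.prime_two).mp (he ▸ h2)
  have hJ : J.index = 1 := by
    rcases j.eq_zero_or_pos with rfl | hpos
    · rw [hj, pow_zero]
    · exact absurd ((dvd_pow_self 2 hpos.ne').trans (hj ▸ h1)) T.not_dvd_index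
  exact Subgroup.subgroupOf_eq_top.mp (Subgroup.index_eq_one.mp hJ)

variable (ih : Below.{u, v} (Nat.card G))
include ih

/-- The involutions of the stabiliser are central in `M`. -/
theorem central {z x : G} (hz : IsInv z) (hza : z • a = a) (hx : x ∈ M a) : x * z = z * x := by
  haveI : Fact (Nat.Prime 2) := ⟨Nat.prime_two⟩
  obtain ⟨S, hzS, hS⟩ := exists_maxP (p := 2) (X := Subgroup.zpowers z)
    (IsPGroup.iff_card.mpr ⟨1, by
      rw [Nat.card_zpowers, pow_one]; exact CfsgLib.Involutions.orderOf_eq_two_iff'.mpr ⟨hz.2, hz.1⟩⟩)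
    (Subgroup.zpowers_le.mpr (inv_mem_M hC hz hza))
  haveI : Nontrivial S := ⟨⟨⟨z, hzS (Subgroup.mem_zpowers z)⟩, 1, fun e => hz.1 (congrArg Subtype.val e)⟩⟩
  haveI : Nontrivial (Subgroup.center S) := hS.isPGroup.center_nontrivial
  obtain ⟨k, hk⟩ := IsPGroup.iff_card.mp (hS.isPGroup.to_subgroup (Subgroup.center S))
  obtain ⟨z₀, hz₀, hz₀i⟩ := exists_inv_of_even (K := Subgroup.center S) (by
    rw [hk]
    refine even_two.pow_of_ne_zero fun e => ?_
    have h1 : 1 < Nat.card (Subgroup.center S) := Finite.one_lt_card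
    rw [hk, e, pow_zero] at h1
    exact lt_irrefl _ h1)
  have hi : IsInv (z₀ : G) := ⟨fun e => hz₀i.1 (Subtype.ext e), congrArg Subtype.val hz₀i.2⟩
  have hza₀ : (z₀ : G) • a = a := smul_of_M hC (hS.le z₀.2)
  have hcen : M a ≤ cz (z₀ : G) := by
    refine (le_core_sup hC le_rfl hS).trans (sup_le (fun n hn => mem_cz.mpr ?_) fun s hs => mem_cz.mpr ?_)
    · exact core_commute hC ih hi hza₀ hn.1
    · exact congrArg Subtype.val (Subgroup.mem_center_iff.mp hz₀ ⟨s, hs⟩)
  obtain ⟨b, hb⟩ := exists_ne (a := a) hC.act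
  obtain ⟨d, hd, rfl⟩ := exists_conj_stab hC.act hi hza₀ hz hza hb.symm
  have hda := (mem_two.mp hd).1
  have h1 := mem_cz.mp (hcen (conj_M hC (h := d⁻¹) (inv_smul_eq_iff.mpr hda.symm) hx))
  rw [inv_inv] at h1
  calc x * (d * z₀ * d⁻¹) = d * (d⁻¹ * x * d * z₀) * d⁻¹ := by group
    _ = d * z₀ * d⁻¹ * x := by rw [h1]; group

/-- Two involutions of the stabiliser congruent modulo the core are equal. -/
theorem inv_eq_of_mem {i j : G} (hi : IsInv i) (hia : i • a = a) (hj : IsInv j) (hja : j • a = a)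
    (h : i * j ∈ N a) : i = j := by
  have hc := central hC ih hj hja (inv_mem_M hC hi hia)
  have h1 : i * j * (i * j) = 1 := by
    calc i * j * (i * j) = i * (j * i) * j := by group
      _ = i * (i * j) * j := by rw [hc]
      _ = 1 := by rw [← mul_assoc, hi.2, one_mul, hj.2]
  have h2 := eq_one_of_two_odd (by rw [pow_two]; exact h1) (odd_orderOf (hC.oddN a) h)
  rw [mul_eq_one_iff_eq_inv, hj.inv] at h2
  exact h2

/-- An element of the core fixing a second point commutes with an involution with another centre. -/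
theorem exists_other_centre (hb : b ≠ a) {y : G} (hy : y ∈ N a) (hyb : y • b = b) :
    ∃ c : Ω, c ≠ a ∧ y ∈ N c := by
  obtain ⟨z, hz, hza⟩ := exists_inv_at hC.act a
  have hyz : y * z = z * y := core_commute hC ih hz hza hy
  have hyo : Odd (orderOf y) := odd_orderOf (hC.oddN a) hy
  by_contra hall
  push Not at hall
  have hcent : ∀ i : G, IsInv i → y * i = i * y → i • a = a := fun i hi hiy => by
    obtain ⟨c, hc⟩ := exists_fix hC.act hi
    rcases eq_or_ne c a with rfl | hca
    · exact hc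
    · exact absurd (mem_N_of_commute hC hi hc hyo hiy) (hall c hca)
  obtain ⟨i, hi, hib⟩ := exists_inv_at hC.act b
  have hzb : z • b ≠ b := fun e => hb (eq_of_fix hC.act hz e hza)
  set b' := z • b
  have hj : IsInv (z * i * z) := by simpa [hz.inv] using hi.conj z
  have hjb : (z * i * z) • b' = b' := by rw [mul_smul, mul_smul, hz.smul_twice, hib]
  set t := y * i * y⁻¹ with ht
  have hti : IsInv t := hi.conj y
  have htb : t • b = b := by have := smul_conj (g := y) hib; rwa [hyb] at this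
  obtain ⟨w, hw, hwt, -⟩ := exists_swap_conj hC.act hti htb hj hjb hzb.symm
  obtain ⟨hwb, hwb'⟩ := swap_points hC.act hti htb hj hjb hw hwt
  set d := w * z with hd
  have hdb : d • b = b := by rw [hd, mul_smul]; exact hwb'
  have hdb' : d • b' = b' := by rw [hd, mul_smul, hz.smul_twice]; exact hwb
  have hdt : d * i * d⁻¹ = t := by
    rw [hd, mul_inv_rev, hz.inv, hw.inv]
    calc w * z * i * (z * w) = w * (z * i * z) * w := by group
      _ = w * (w * t * w) * w := by rw [hwt]
      _ = t := by simp [← mul_assoc, hw.2, mul_assoc t]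
  have hdz : z * d * z = d⁻¹ := by
    rw [hd, mul_inv_rev, hz.inv, hw.inv, mul_assoc, mul_assoc w, hz.2, mul_one]
  set d' := y * d * y⁻¹ with hd'
  have hm0 : y⁻¹ * d ∈ M b := hC.cent b i _ hi hib (by
    calc y⁻¹ * d * i = y⁻¹ * (d * i * d⁻¹) * d := by group
      _ = i * (y⁻¹ * d) := by rw [hdt, ht]; group)
  have hd't : d' * i * d'⁻¹ = t := by
    have hc := central hC ih (z := y⁻¹ * i * y) (by simpa using hi.conj y⁻¹)
      (by have := smul_conj (g := y⁻¹) hib; rwa [inv_smul_eq_iff.mpr hyb.symm, inv_inv] at this) hm0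
    calc d' * i * d'⁻¹ = y * (y * ((y⁻¹ * d) * (y⁻¹ * i * y)) * d⁻¹) * y⁻¹ := by rw [hd']; group
      _ = y * i * y⁻¹ := by rw [hc]; group
      _ = t := ht.symm
  have hd'z : z * d' * z = d'⁻¹ := by
    rw [hd']
    calc z * (y * d * y⁻¹) * z = (z * y) * d * (y⁻¹ * z) := by group
      _ = y * (z * d * z) * y⁻¹ := by
        rw [← hyz, show y⁻¹ * z = z * y⁻¹ from (show Commute y z from hyz).inv_left.eq]
        group
      _ = (y * d * y⁻¹)⁻¹ := by rw [hdz]; group
  have hw' : IsInv (d' * z) := by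
    refine ⟨fun e => hzb ?_, ?_⟩
    · have he : d' = z := by rw [mul_eq_one_iff_eq_inv, hz.inv] at e; exact e
      calc b' = d' • b := by rw [he]
        _ = b := by rw [hd', mul_smul, mul_smul, inv_smul_eq_iff.mpr hyb.symm, hdb, hyb]
    · calc d' * z * (d' * z) = d' * (z * d' * z) := by group
        _ = 1 := by rw [hd'z, mul_inv_cancel]
  have huniq : d' * z = w := by
    refine swap_unique hC.act hti htb hzb.symm hw hw' (by rw [hwt]; exact hjb) ?_
    rw [hwt]
    calc d' * z * t * (d' * z) = (d' * z)⁻¹ * t * (d' * z) := by rw [hw'.inv]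
      _ = z⁻¹ * (d'⁻¹ * (d' * i * d'⁻¹) * d') * z := by rw [hd't]; group
      _ = z * i * z := by rw [hz.inv]; group
  have hdy : d * y = y * d := by
    have : d' = d := by rw [hd, ← huniq, mul_assoc, hz.2, mul_one]
    rw [hd', mul_inv_eq_iff_eq_mul] at this
    exact this.symm
  have hd1 : d ≠ 1 := fun e => by
    have h1 : i = t := by rw [← hdt, e]; group
    have h2 : y ∈ M b := hC.cent b i y hi hib (by
      conv_rhs => rw [h1, ht]
      group)
    exact hall b hb (mem_N_of_odd hC h2 hyo)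
  have hda : d • a = a := by
    have h1 := hcent (d * z * d⁻¹) (hz.conj d) (by
      calc y * (d * z * d⁻¹) = (y * d) * z * d⁻¹ := by group
        _ = d * (y * z) * d⁻¹ := by rw [← hdy]; group
        _ = d * z * (y * d⁻¹) := by rw [hyz]; group
        _ = _ := by rw [show y * d⁻¹ = d⁻¹ * y from (show Commute d y from hdy).inv_left.eq.symm]; group)
    exact eq_of_fix hC.act (hz.conj d) (smul_conj hza) h1
  have hdo : Odd (orderOf d) :=
    odd_orderOf (odd_two hC.act hzb.symm) (mem_two.mpr ⟨hdb, hdb'⟩)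
  have hdN := mem_N_of_inverted hC hz hza hda hdo hdz
  refine hd1 (eq_one_of_inv_eq ?_ hdo)
  rw [← hdz, ← core_commute hC ih hz hza hdN, mul_assoc, hz.2, mul_one]

/-- An element of the core fixing a second point lies in the core of that point. -/
theorem mem_N_of_fix (hb : b ≠ a) {g : G} (hg : g ∈ N a) (hgb : g • b = b) : g ∈ N b := by
  rcases eq_or_ne g 1 with rfl | hg1
  · exact one_mem _
  obtain ⟨c, hca, hgc⟩ := exists_other_centre hC ih hb hg hgb
  haveI := hC.act.trans
  obtain ⟨x, y, hx, hxa, hy, hya, hxy⟩ := exists_two_at hC.act a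
  obtain ⟨i, hi, hic⟩ := exists_inv_at hC.act c
  set E₀ : Subgroup G := N a ⊓ N c
  set X := Subgroup.normalizer (E₀ : Set G) with hX
  have hXtop : X ≠ ⊤ := fun e => hg1 (eq_of_smul_eq_smul (α := Ω) fun d => by
    obtain ⟨k, rfl⟩ := exists_smul_eq G a d
    rw [one_smul]
    exact fixSet_smul (show k ∈ Subgroup.normalizer (E₀ : Set G) from hX ▸ e ▸ Subgroup.mem_top k)
      (fun w hw => smul_of_N hC hw.1) g ⟨hg, hgc⟩)
  have hin : ∀ {j : G}, (∀ e ∈ E₀, e * j = j * e) → j ∈ X := fun {j} hj =>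
    mem_normalizer_of_conj fun e he => by
      rw [← hj e he, mul_inv_cancel_right]
      exact he
  -- every element of the core fixing `c` lies in its core
  have hkey : ∀ k ∈ N a, k • c = c → k ∈ N c := fun k hk hkc =>
    (core_fix hC ih hXtop (hin fun e he => core_commute hC ih hx hxa he.1)
      (hin fun e he => core_commute hC ih hy hya he.1) hx hy hxy (central hC ih hy hya (inv_mem_M hC hx hxa))
      hxa (mem_normalizer_of_conj fun e he =>
        ⟨(N a).mul_mem ((N a).mul_mem hk he.1) ((N a).inv_mem hk), conj_N hC hkc he.2⟩)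
      hk (hin fun e he => core_commute hC ih hi hic he.2) hi hic).2
  obtain ⟨k, hka, hkb⟩ := two_transitive hC hb hca
  have h1 : k * g * k⁻¹ ∈ N a := by simpa [hka] using hC.conjN k a g hg
  have h2 : (k * g * k⁻¹) • c = c := by rw [← hkb]; exact smul_conj hgb
  have h3 := hC.conjN k⁻¹ c _ (hkey _ h1 h2)
  rw [← hkb, inv_smul_smul] at h3
  simpa [mul_assoc] using h3

/-- A subgroup fixing a point of a four-group: its normaliser element in the core fixes the other fixed points. -/
theorem core_normalizer_fix {R : Subgroup G} (hR : R ≠ ⊥) (hRN : R ≤ N a) {c : Ω} (hca : c ≠ a)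
    (hRc : ∀ x ∈ R, x • c = c) {g : G} (hg : g ∈ N a) (hgR : g ∈ Subgroup.normalizer (R : Set G)) :
    g • c = c := by
  haveI := hC.act.trans
  obtain ⟨x, y, hx, hxa, hy, hya, hxy⟩ := exists_two_at hC.act a
  obtain ⟨i, hi, hic⟩ := exists_inv_at hC.act c
  set X := Subgroup.normalizer (R : Set G) with hX
  have hXtop : X ≠ ⊤ := fun e => hR ((Subgroup.eq_bot_iff_forall R).mpr fun w hw =>
    eq_of_smul_eq_smul (α := Ω) fun d => by
      obtain ⟨k, rfl⟩ := exists_smul_eq G a d
      rw [one_smul]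
      exact fixSet_smul (show k ∈ Subgroup.normalizer (R : Set G) from hX ▸ e ▸ Subgroup.mem_top k)
        (fun w hw => smul_of_N hC (hRN hw)) w hw)
  have hin : ∀ {j : G}, (∀ e ∈ R, e * j = j * e) → j ∈ X := fun {j} hj =>
    mem_normalizer_of_conj fun e he => by
      rw [← hj e he, mul_inv_cancel_right]
      exact he
  exact (core_fix hC ih hXtop (hin fun e he => core_commute hC ih hx hxa (hRN he))
    (hin fun e he => core_commute hC ih hy hya (hRN he)) hx hy hxy
    (central hC ih hy hya (inv_mem_M hC hx hxa)) hxa hgR hg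
    (hin fun e he => core_commute hC ih hi hic (mem_N_of_fix hC ih hca (hRN he) (hRc e he))) hi hic).1

/-- The elements of the core fixing a second point form a malnormal subgroup. -/
theorem malnormal (hb : b ≠ a) {o : G} (ho : o ∈ N a) (hob : o • b ≠ b) {g : G} (hg : g ∈ N a)
    (hgb : g • b = b) (hgob : g • o • b = o • b) : g = 1 := by
  by_contra hg1
  have hoa : o • a = a := smul_of_N hC ho
  set c := o • b
  have hca : c ≠ a := fun e => hb (smul_left_cancel o (e.trans hoa.symm))
  set E : Subgroup G := N a ⊓ stabilizer G b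
  set M₀ : Subgroup G := E ⊓ stabilizer G c
  have hgM : g ∈ M₀ := ⟨⟨hg, mem_stabilizer_iff.mpr hgb⟩, mem_stabilizer_iff.mpr hgob⟩
  obtain ⟨p, hp, hpd⟩ := Nat.exists_prime_and_dvd (n := Nat.card M₀) fun e =>
    hg1 (Subgroup.mem_bot.mp ((Subgroup.card_eq_one.mp e) ▸ hgM))
  haveI : Fact p.Prime := ⟨hp⟩
  obtain ⟨R, -, hR⟩ := exists_maxP (IsPGroup.of_bot (p := p)) (bot_le : (⊥ : Subgroup G) ≤ M₀)
  have hR0 : R ≠ ⊥ := fun e => by
    have h1 := hR.card
    rw [e, Subgroup.card_bot] at h1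
    exact (Nat.one_lt_pow (hp.factorization_pos_of_dvd Nat.card_pos.ne' hpd).ne' hp.one_lt).ne h1
  have hRN : R ≤ N a := fun x hx => (hR.le hx).1.1
  have hRb : ∀ x ∈ R, x • b = b := fun x hx => mem_stabilizer_iff.mp (hR.le hx).1.2
  have hRc : ∀ x ∈ R, x • c = c := fun x hx => mem_stabilizer_iff.mp (hR.le hx).2
  have hmax : MaxP p (N a) R := by
    obtain ⟨Q, hRQ, hQ⟩ := exists_maxP hR.isPGroup hRN
    rcases hRQ.eq_or_lt with rfl | hlt
    · exact hQ
    obtain ⟨k, hk, hkR, hkn⟩ := exists_mem_normalizer hQ.isPGroup hlt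
    have hkM : k ∈ M₀ := ⟨⟨hQ.le hk, mem_stabilizer_iff.mpr (core_normalizer_fix hC ih hR0 hRN hb hRb (hQ.le hk) hkn)⟩,
      mem_stabilizer_iff.mpr (core_normalizer_fix hC ih hR0 hRN hca hRc (hQ.le hk) hkn)⟩
    have h1 := hR.eq_of_le (hQ.isPGroup.to_le (sup_le hRQ (Subgroup.zpowers_le.mpr hk)))
      (sup_le hR.le (Subgroup.zpowers_le.mpr hkM)) le_sup_left
    exact absurd ((le_sup_right : _ ≤ R ⊔ Subgroup.zpowers k).trans h1.le (Subgroup.mem_zpowers k)) hkR
  have hRE : MaxP p E R := hmax.of_le inf_le_left fun x hx => (hR.le hx).1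
  have hRE' : MaxP p E (R.map (MulAut.conj o⁻¹).toMonoidHom) := by
    refine maxP_of_card (hR.isPGroup.map _) ?_ ?_
    · rintro _ ⟨x, hx, rfl⟩
      refine ⟨(N a).mul_mem ((N a).mul_mem ((N a).inv_mem ho) (hRN hx)) ((N a).inv_mem ((N a).inv_mem ho)),
        mem_stabilizer_iff.mpr ?_⟩
      show (o⁻¹ * x * (o⁻¹)⁻¹) • b = b
      rw [inv_inv, mul_smul, mul_smul, show x • o • b = o • b from hRc x hx, inv_smul_smul]
    · rw [Subgroup.card_map_of_injective (MulAut.conj o⁻¹).injective, hRE.card]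
  obtain ⟨e, he, heR⟩ := hRE.conj hRE'
  have hoe : o * e ∈ Subgroup.normalizer (R : Set G) := mem_normalizer_of_conj fun x hx => by
    obtain ⟨w, hw, hwe⟩ := (heR x).mp hx
    have : o * e * x * (o * e)⁻¹ = w := by
      rw [show o * e * x * (o * e)⁻¹ = o * (e * x * e⁻¹) * o⁻¹ by group, ← hwe]
      show o * (o⁻¹ * w * (o⁻¹)⁻¹) * o⁻¹ = w
      group
    rw [this]
    exact hw
  have h1 := core_normalizer_fix hC ih hR0 hRN hb hRb ((N a).mul_mem ho he.1) hoe
  rw [mul_smul, mem_stabilizer_iff.mp he.2] at h1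
  exact hob h1

end CfsgLib.Bender.OddCore
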