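import Cfsg.Agent.Lib.Bender.OddCore.Bad

/-!
The induction: a proper subgroup containing a four-group at a point acts on the centres of its involutions, and the
intersection with the odd core at that point fixes all of them.

Blueprint: `blueprint/bender/E_OddCore.md`.
-/

set_option autoImplicit false
set_option linter.unusedSectionVars false
set_option linter.style.haveILetI false

namespace CfsgLib.Bender.OddCore

open MulAction Cfsg CfsgLib.SuzukiRankOne
open CfsgLib.Bender.TwoClosed (IsInv IsInv.inv IsInv.conj IsInv.smul_twice two InvAt Swap smul_conj mem_two mem_two_comm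
  exists_inv_of_even odd_card_of_forall odd_orderOf eq_one_of_two_odd eq_one_of_inv_eq mem_normalizer_of_conj)

universe u v

/-- The induction hypothesis below the order `n`. -/
def Below (n : ℕ) : Prop :=
  ∀ (G : Type u) (Ω : Type v) [Group G] [Finite G] [MulAction G Ω] [FaithfulSMul G Ω] (N M : Ω → Subgroup G),
    Core G Ω N M → Nat.card G < n → ∀ c : Ω, N c = ⊥

variable {G : Type u} {Ω : Type v} [Group G] [MulAction G Ω]

/-- The centres of the involutions of a subgroup. -/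
abbrev Cen (Ω : Type v) [MulAction G Ω] (X : Subgroup G) : Type v :=
  {c : Ω // ∃ x ∈ X, IsInv x ∧ x • c = c}

theorem smul_cen {X : Subgroup G} (g : X) (c : Cen Ω X) :
    ∃ x ∈ X, IsInv x ∧ x • (g : G) • (c : Ω) = (g : G) • (c : Ω) := by
  obtain ⟨x, hx, hi, hc⟩ := c.2
  exact ⟨g * x * (g : G)⁻¹, mul_mem (mul_mem g.2 hx) (inv_mem g.2), hi.conj g, smul_conj hc⟩

instance cenAction (X : Subgroup G) : MulAction X (Cen Ω X) where
  smul g c := ⟨(g : G) • (c : Ω), smul_cen g c⟩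
  one_smul c := Subtype.ext (one_smul G (c : Ω))
  mul_smul g g' c := Subtype.ext (mul_smul (g : G) (g' : G) (c : Ω))

/-- The action on the centres. -/
abbrev cenHom (Ω : Type v) [MulAction G Ω] (X : Subgroup G) : X →* Equiv.Perm (Cen Ω X) :=
  MulAction.toPermHom X (Cen Ω X)

/-- The subgroup modulo the kernel on the centres. -/
abbrev CenBar (Ω : Type v) [MulAction G Ω] (X : Subgroup G) : Type u := X ⧸ (cenHom Ω X).ker

/-- The projection. -/
abbrev cenMk (Ω : Type v) [MulAction G Ω] (X : Subgroup G) : X →* CenBar Ω X := QuotientGroup.mk' _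

instance cenBarAction (X : Subgroup G) : MulAction (CenBar Ω X) (Cen Ω X) :=
  MulAction.compHom (Cen Ω X) (QuotientGroup.kerLift (cenHom Ω X))

instance cenBarFaithful (X : Subgroup G) : FaithfulSMul (CenBar Ω X) (Cen Ω X) :=
  ⟨fun {_ _} h => QuotientGroup.kerLift_injective (cenHom Ω X) (Equiv.ext h)⟩

theorem cen_ker_fix {X : Subgroup G} {g : X} (hg : g ∈ (cenHom Ω X).ker) (c : Cen Ω X) :
    (g : G) • (c : Ω) = c :=
  congrArg Subtype.val (congrFun (congrArg DFunLike.coe (MonoidHom.mem_ker.mp hg)) c)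

variable [Finite G] (hA : Act G Ω) {X : Subgroup G}
include hA

theorem odd_cenKer (p q : Cen Ω X) (hpq : p ≠ q) : Odd (Nat.card (cenHom Ω X).ker) := by
  rw [← Subgroup.card_map_of_injective X.subtype_injective]
  refine odd_card_of_forall fun x hx hi => ?_
  obtain ⟨g, hg, rfl⟩ := hx
  exact hpq (Subtype.ext (eq_of_fix hA hi (cen_ker_fix hg p) (cen_ker_fix hg q)))

/-- An involution of the quotient is the image of an involution. -/
theorem lift_inv (p q : Cen Ω X) (hpq : p ≠ q) {g : X} (hg1 : cenMk Ω X g ≠ 1)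
    (hg : cenMk Ω X g * cenMk Ω X g = 1) : ∃ z : X, cenMk Ω X z = cenMk Ω X g ∧ IsInv (z : G) := by
  set l := Nat.card (cenHom Ω X).ker
  obtain ⟨k, hk⟩ := odd_cenKer hA p q hpq
  have hmem : g * g ∈ (cenHom Ω X).ker := by
    rw [← QuotientGroup.eq_one_iff]
    exact hg
  have h1 : (g * g) ^ l = 1 := congrArg Subtype.val
    (pow_card_eq_one' (x := (⟨_, hmem⟩ : (cenHom Ω X).ker)))
  have hg2 : cenMk Ω X g ^ 2 = 1 := by rw [pow_two, hg]
  have hmap : cenMk Ω X (g ^ l) = cenMk Ω X g := by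
    have hl : l = 2 * k + 1 := hk
    rw [map_pow, hl, pow_succ, pow_mul, hg2, one_pow, one_mul]
  refine ⟨g ^ l, hmap, fun e => hg1 ?_, ?_⟩
  · rw [← hmap, show g ^ l = 1 from Subtype.ext e, map_one]
  · have h2 : g ^ l * g ^ l = 1 := by rw [← (Commute.refl g).mul_pow, h1]
    exact congrArg Subtype.val h2

omit hA

variable {N M : Ω → Subgroup G} {a : Ω} [FaithfulSMul G Ω] (hC : Core G Ω N M)
include hC

/-- The odd core at a four-group point meets a proper subgroup in the kernel on its centres. -/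
theorem core_fix (ih : Below.{u, v} (Nat.card G)) (hX : X ≠ ⊤) {x y : G} (hxX : x ∈ X) (hyX : y ∈ X)
    (hx : IsInv x) (hy : IsInv y) (hxy : x ≠ y) (hcom : x * y = y * x) (hxa : x • a = a)
    {g : G} (hgX : g ∈ X) (hg : g ∈ N a) {i : G} (hiX : i ∈ X) (hi : IsInv i) {h : Ω} (hih : i • h = h) :
    g • h = h ∧ g ∈ N h := by
  rcases eq_or_ne h a with rfl | hne
  · exact ⟨smul_of_N hC hg, hg⟩
  have hya : y • a = a := commute_fix hC.act hx hxa hcom.symm
  let p : Cen Ω X := ⟨a, x, hxX, hx, hxa⟩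
  let q : Cen Ω X := ⟨h, i, hiX, hi, hih⟩
  have hpq : p ≠ q := fun e => hne (congrArg Subtype.val e).symm
  have hnk : ∀ {z : G} (hz : z ∈ X), IsInv z → cenMk Ω X ⟨z, hz⟩ ≠ 1 := fun {z} hz hzi e => by
    have h1 := (QuotientGroup.eq_one_iff _).mp e
    exact hne (eq_of_fix hC.act hzi (cen_ker_fix h1 q) (cen_ker_fix h1 p))
  set N' : Cen Ω X → Subgroup (CenBar Ω X) := fun c => ((N c).subgroupOf X).map (cenMk Ω X)
  set M' : Cen Ω X → Subgroup (CenBar Ω X) := fun c => ((M c).subgroupOf X).map (cenMk Ω X)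
  have hcore : Core (CenBar Ω X) (Cen Ω X) N' M' := by
    refine ⟨⟨⟨fun r s => ?_⟩, fun z hz => ?_, ?_⟩, ?_, ?_, ?_, ?_, ?_, ?_, ?_⟩
    · rcases eq_or_ne r s with rfl | hrs
      · exact ⟨1, one_smul _ _⟩
      obtain ⟨z, hz, hzi, hzr⟩ := r.2
      obtain ⟨w, hw, hwi, hws⟩ := s.2
      obtain ⟨t, ht, he, hcl⟩ := exists_swap_conj hC.act hzi hzr hwi hws fun e => hrs (Subtype.ext e)
      have htX : t ∈ X := (Subgroup.closure_le _).mpr (by rintro e (rfl | rfl) <;> assumption) hcl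
      exact ⟨cenMk Ω X ⟨t, htX⟩, Subtype.ext (swap_points hC.act hzi hzr hwi hws ht he).1⟩
    · obtain ⟨g₀, rfl⟩ := QuotientGroup.mk'_surjective _ z
      obtain ⟨z₀, hz₀, hzi⟩ := lift_inv hC.act p q hpq hz.1 hz.2
      obtain ⟨c, hc⟩ := exists_fix hC.act hzi
      refine ⟨⟨c, _, z₀.2, hzi, hc⟩, ?_, fun c' hc' => ?_⟩
      · show cenMk Ω X g₀ • _ = _
        rw [← hz₀]
        exact Subtype.ext hc
      · have h1 : cenMk Ω X z₀ • c' = c' := by rw [hz₀]; exact hc'
        exact Subtype.ext (eq_of_fix hC.act hzi (congrArg Subtype.val h1) hc)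
    · refine ⟨cenMk Ω X ⟨x, hxX⟩, cenMk Ω X ⟨y, hyX⟩, hnk hxX hx, hnk hyX hy, fun e => ?_, ?_, ?_, ?_⟩
      · refine hnk (mul_mem hxX hyX) ⟨fun e' => hxy (by rw [← hy.inv]; exact mul_eq_one_iff_eq_inv.mp e'), ?_⟩ ?_
        · calc x * y * (x * y) = x * (y * x) * y := by group
            _ = x * (x * y) * y := by rw [hcom]
            _ = 1 := by rw [← mul_assoc, hx.2, one_mul, hy.2]
        · rw [show (⟨x * y, mul_mem hxX hyX⟩ : X) = ⟨x, hxX⟩ * ⟨y, hyX⟩ from rfl, map_mul, e, ← map_mul,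
            show (⟨y, hyX⟩ : X) * ⟨y, hyX⟩ = 1 from Subtype.ext hy.2, map_one]
      · rw [← map_mul, ← map_one (cenMk Ω X)]; exact congrArg _ (Subtype.ext hx.2)
      · rw [← map_mul, ← map_one (cenMk Ω X)]; exact congrArg _ (Subtype.ext hy.2)
      · rw [← map_mul, ← map_mul]; exact congrArg _ (Subtype.ext hcom)
    · exact fun c => Subgroup.map_mono fun _ hz => hC.N_le c hz
    · rintro c _ ⟨z, hz, rfl⟩
      exact mem_stabilizer_iff.mpr (Subtype.ext (smul_of_M hC (Subgroup.mem_subgroupOf.mp hz)))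
    · rintro s c _ ⟨z, hz, rfl⟩
      obtain ⟨s, rfl⟩ := QuotientGroup.mk'_surjective _ s
      exact ⟨s * z * s⁻¹, hC.conjN s c z hz, by rw [map_mul, map_mul, map_inv]⟩
    · rintro s c _ ⟨z, hz, rfl⟩
      obtain ⟨s, rfl⟩ := QuotientGroup.mk'_surjective _ s
      exact ⟨s * z * s⁻¹, hC.conjM s c z hz, by rw [map_mul, map_mul, map_inv]⟩
    · exact fun c => (hC.oddN c).of_dvd_nat ((Subgroup.card_map_dvd _ _).trans
        (Subgroup.card_comap_dvd_of_injective _ _ X.subtype_injective))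
    · rintro c _ ⟨z, hz, rfl⟩
      obtain ⟨k, hk⟩ := hC.quot c z hz
      exact ⟨k, z ^ 2 ^ k, hk, map_pow _ _ _⟩
    · intro c z s hz hzc hcomm
      obtain ⟨g₀, rfl⟩ := QuotientGroup.mk'_surjective _ z
      obtain ⟨z₀, hz₀, hzi⟩ := lift_inv hC.act p q hpq hz.1 hz.2
      rw [← hz₀] at hzc hcomm
      obtain ⟨s, rfl⟩ := QuotientGroup.mk'_surjective _ s
      have hw : s⁻¹ * z₀ * s * z₀ ∈ (cenHom Ω X).ker := by
        refine (QuotientGroup.eq_one_iff _).mp ?_
        show cenMk Ω X (s⁻¹ * z₀ * s * z₀) = 1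
        rw [map_mul, map_mul, map_mul, map_inv, mul_assoc ((cenMk Ω X s)⁻¹) _ (cenMk Ω X s), ← hcomm,
          ← mul_assoc, inv_mul_cancel, one_mul, ← map_mul,
          show z₀ * z₀ = 1 from Subtype.ext hzi.2, map_one]
      obtain ⟨v, hv, hvz⟩ := exists_cent (g := (s : G)) hzi (odd_orderOf
        (K := (cenHom Ω X).ker.map X.subtype) (by
          rw [Subgroup.card_map_of_injective X.subtype_injective]
          exact odd_cenKer hC.act p q hpq) ⟨_, hw, rfl⟩)
      obtain ⟨v, hvk, rfl⟩ := Subgroup.zpowers_le.mpr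
        (show _ ∈ (cenHom Ω X).ker.map X.subtype from ⟨_, hw, rfl⟩) hv
      refine ⟨s * v, hC.cent c z₀ _ hzi (congrArg Subtype.val hzc) hvz, ?_⟩
      rw [map_mul]
      rw [show cenMk Ω X v = 1 from (QuotientGroup.eq_one_iff v).mpr hvk, mul_one]
  have hlt : Nat.card (CenBar Ω X) < Nat.card G := by
    refine lt_of_le_of_lt (Nat.card_le_card_of_surjective _ (QuotientGroup.mk'_surjective _)) ?_
    exact lt_of_le_of_ne (Nat.card_le_card_of_injective _ Subtype.val_injective)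
      fun e => hX (Subgroup.eq_top_of_card_eq _ e)
  have hker : (⟨g, hgX⟩ : X) ∈ (cenHom Ω X).ker := by
    have h1 : cenMk Ω X ⟨g, hgX⟩ ∈ N' p := ⟨_, hg, rfl⟩
    rw [ih _ _ N' M' hcore hlt p, Subgroup.mem_bot] at h1
    exact (QuotientGroup.eq_one_iff _).mp h1
  refine ⟨cen_ker_fix hker q, ?_⟩
  refine le_N_of_normalised hC (T := (cenHom Ω X).ker.map X.subtype) ?_ ?_ hi hih ?_ ⟨_, hker, rfl⟩
  · rw [Subgroup.card_map_of_injective X.subtype_injective]
    exact odd_cenKer hC.act p q hpq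
  · rintro _ ⟨k, hk, rfl⟩
    exact cen_ker_fix hk q
  · refine mem_normalizer_of_conj ?_
    rintro _ ⟨k, hk, rfl⟩
    exact ⟨_, (MonoidHom.normal_ker (cenHom Ω X)).conj_mem k hk ⟨i, hiX⟩, rfl⟩

end CfsgLib.Bender.OddCore
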